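import Groth.Agent.RelTilde.Exist
import Groth.Agent.RelTwist.Basic
import Groth.Agent.QCohMod.Stalk

/-!
# `(ℳ(n))~` on a relative Proj: values, uniqueness, morphisms
-/

universe u

open CategoryTheory CategoryTheory.Limits AlgebraicGeometry Opposite TopologicalSpace
open scoped HomogeneousIdeal

set_option backward.isDefEq.respectTransparency.types false

noncomputable section

namespace Groth.RelTilde

open Groth.PicAux (res res_res res_self res_smul res_ext res_glue app_res res_add)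
open Groth.RelTw (Over exists_common exists_emb_eq over_of_emb_eq emb_eq_of_over p_emb_mem image_le)

section general

variable {X : Scheme.{u}}

/-- Exactness from local lifting of sections. -/
theorem exact_of_local (S : ShortComplex X.Modules)
    (h : ∀ (V : X.Opens) (t : Γ(S.X₂, V)), S.g.app V t = 0 → ∀ x ∈ V,
      ∃ (W : X.Opens) (hW : W ≤ V), x ∈ W ∧ ∃ s : Γ(S.X₁, W), S.f.app W s = res S.X₂ hW t) : S.Exact := by
  refine (Groth.QCohMod.exact_iff_stalk S).mpr fun x => ?_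
  rw [ShortComplex.ab_exact_iff]
  intro t ht
  obtain ⟨V, hxV, t, rfl⟩ := TopCat.Presheaf.exists_germ_eq S.X₂.presheaf t
  have h0 : S.X₃.presheaf.germ V x hxV (S.g.app V t) = 0 :=
    (TopCat.Presheaf.stalkFunctor_map_germ_apply V x hxV S.g.mapPresheaf t).symm.trans ht
  obtain ⟨W, hxW, i, i', hWeq⟩ := TopCat.Presheaf.germ_eq S.X₃.presheaf x hxV hxV (S.g.app V t) 0
    (by rw [h0, map_zero])
  have h1 : S.g.app W (res S.X₂ i.le t) = 0 := by
    rw [app_res]
    exact hWeq.trans (map_zero _)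
  obtain ⟨W', hW', hxW', s, hs⟩ := h W _ h1 x hxW
  refine ⟨S.X₁.presheaf.germ W' x hxW' s, ?_⟩
  refine (TopCat.Presheaf.stalkFunctor_map_germ_apply W' x hxW' S.f.mapPresheaf s).trans ?_
  change S.X₂.presheaf.germ W' x hxW' (S.f.app W' s) = _
  rw [hs, res_res]
  exact TopCat.Presheaf.germ_res_apply S.X₂.presheaf (homOfLE (hW'.trans i.le)) x hxW' t

/-- Epimorphy from local lifting of sections. -/
theorem epi_of_local {M N : X.Modules} (φ : M ⟶ N)
    (h : ∀ (V : X.Opens) (t : Γ(N, V)), ∀ x ∈ V,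
      ∃ (W : X.Opens) (hW : W ≤ V), x ∈ W ∧ ∃ s : Γ(M, W), φ.app W s = res N hW t) : Epi φ := by
  refine (Groth.QCohMod.epi_iff_stalk φ).mpr fun x t => ?_
  obtain ⟨V, hxV, t, rfl⟩ := TopCat.Presheaf.exists_germ_eq N.presheaf t
  obtain ⟨W, hW, hxW, s, hs⟩ := h V t x hxV
  refine ⟨M.presheaf.germ W x hxW s, ?_⟩
  refine (TopCat.Presheaf.stalkFunctor_map_germ_apply W x hxW φ.mapPresheaf s).trans ?_
  change N.presheaf.germ W x hxW (φ.app W s) = _
  rw [hs]
  exact TopCat.Presheaf.germ_res_apply N.presheaf (homOfLE hW) x hxW t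

/-- A module with only zero sections is zero. -/
theorem isZero_of_forall (M : X.Modules) (h : ∀ (W : X.Opens) (s : Γ(M, W)), s = 0) : IsZero M :=
  (IsZero.iff_id_eq_zero _).mpr (Scheme.Modules.hom_ext _ _ fun W => by
    ext s
    exact (h W _).trans (h W _).symm)

theorem eq_zero_of_isZero {M : X.Modules} (h : IsZero M) {W : X.Opens} (s : Γ(M, W)) : s = 0 :=
  congr(($((IsZero.iff_id_eq_zero _).mp h)).app W s)

end general

variable {S P : Scheme.{u}} {𝒮 : RelProj.QCGrAlg S} {p : P ⟶ S}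
  {chart : ∀ (U : S.Opens) (hU : IsAffineOpen U), (((p ⁻¹ᵁ U : P.Opens) : Scheme.{u}) ≅ Proj (𝒮.deg U hU))}
  {ℳ : RelProj.GrModule 𝒮} {n : ℤ} {F : P.Modules}

/-- The target of the identifications over `U`. -/
abbrev locT (p : P ⟶ S)
    (chart : ∀ (U : S.Opens) (hU : IsAffineOpen U), (((p ⁻¹ᵁ U : P.Opens) : Scheme.{u}) ≅ Proj (𝒮.deg U hU)))
    (ℳ : RelProj.GrModule 𝒮) (n : ℤ) (U : S.Opens) (hU : IsAffineOpen U) : P.Modules :=
  (Scheme.Modules.pushforward (RelProj.emb p chart U hU)).obj (GrMod.tilde (𝒮.deg U hU) (ℳ.deg U hU) n)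

/-- The value of a section read through a chart. -/
def pv (lam : ∀ (U : S.Opens) (hU : IsAffineOpen U), F ⟶ locT p chart ℳ n U hU)
    (U : S.Opens) (hU : IsAffineOpen U) {W : P.Opens} (s : Γ(F, W))
    (y : ProjectiveSpectrum (𝒮.deg U hU)) (hy : RelProj.emb p chart U hU y ∈ W) :
    GrMod.LocMod (𝒮.deg U hU) (M := ℳ.mod.val.obj (op U)) y :=
  tv (U := RelProj.emb p chart U hU ⁻¹ᵁ W) ((lam U hU).app W s) y hy

variable (lam : ∀ (U : S.Opens) (hU : IsAffineOpen U), F ⟶ locT p chart ℳ n U hU)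

theorem pv_res (U : S.Opens) (hU : IsAffineOpen U) {W W' : P.Opens} (h : W' ≤ W) (s : Γ(F, W))
    (y : ProjectiveSpectrum (𝒮.deg U hU)) (hy : RelProj.emb p chart U hU y ∈ W') :
    pv lam U hU (res F h s) y hy = pv lam U hU s y (h hy) :=
  congrArg (fun t => tv (U := RelProj.emb p chart U hU ⁻¹ᵁ W') t y hy) (app_res (lam U hU) h s)

theorem pv_add (U : S.Opens) (hU : IsAffineOpen U) {W : P.Opens} (s t : Γ(F, W))
    (y : ProjectiveSpectrum (𝒮.deg U hU)) (hy : RelProj.emb p chart U hU y ∈ W) :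
    pv lam U hU (s + t) y hy = pv lam U hU s y hy + pv lam U hU t y hy := by
  rw [pv, map_add]; rfl

theorem pv_zero (U : S.Opens) (hU : IsAffineOpen U) {W : P.Opens}
    (y : ProjectiveSpectrum (𝒮.deg U hU)) (hy : RelProj.emb p chart U hU y ∈ W) :
    pv lam U hU (0 : Γ(F, W)) y hy = 0 := by
  rw [pv, map_zero]; rfl

theorem pv_smul (U : S.Opens) (hU : IsAffineOpen U) {W : P.Opens} (r : Γ(P, W)) (s : Γ(F, W))
    (y : ProjectiveSpectrum (𝒮.deg U hU)) (hy : RelProj.emb p chart U hU y ∈ W) :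
    pv lam U hU (r • s) y hy =
      (((RelProj.emb p chart U hU).app W r).1 ⟨y, hy⟩).val • pv lam U hU s y hy :=
  (congrArg (fun t => tv (U := RelProj.emb p chart U hU ⁻¹ᵁ W) t y hy) ((lam U hU).app_smul r s)).trans
    (tv_smul _ _ _ _)

theorem pv_mem (U : S.Opens) (hU : IsAffineOpen U) {W : P.Opens} (s : Γ(F, W))
    (y : ProjectiveSpectrum (𝒮.deg U hU)) (hy : RelProj.emb p chart U hU y ∈ W) :
    pv lam U hU s y hy ∈ GrMod.tildeAt (𝒮.deg U hU) (ℳ.deg U hU) n y :=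
  (((lam U hU).app W s : GrMod.sect (𝒮.deg U hU) (ℳ.deg U hU) n (op (RelProj.emb p chart U hU ⁻¹ᵁ W))).1 ⟨y, hy⟩).2

/-- The compatibility of maps to the charts along basic opens. -/
def Compatible : Prop :=
  ∀ (U : S.Opens) (hU : IsAffineOpen U) (r : Γ(S, U)) (W : P.Opens) (s : Γ(F, W))
    (y : ProjectiveSpectrum (𝒮.deg (S.basicOpen r) (hU.basicOpen r)))
    (hy : RelProj.emb p chart (S.basicOpen r) (hU.basicOpen r) y ∈ W)
    (hy' : RelProj.emb p chart U hU (ProjectiveSpectrum.comap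
      (𝒮.res hU (hU.basicOpen r) (S.basicOpen_le r)) (𝒮.irrelevant_le_map U hU r) y) ∈ W),
    pv lam (S.basicOpen r) (hU.basicOpen r) s y hy =
      GrMod.locModMap (𝒮.res hU (hU.basicOpen r) (S.basicOpen_le r)) (𝒮.irrelevant_le_map U hU r)
        (ℳ.res hU (hU.basicOpen r) (S.basicOpen_le r)) y (pv lam U hU s _ hy')

variable {lam}

theorem compatible_of_isRelTilde (hF : RelProj.IsRelTilde 𝒮 p chart ℳ n F lam) : Compatible lam :=
  hF.compat

theorem Compatible.pv_eq_MT (hc : Compatible lam) {U D : S.Opens} {hU : IsAffineOpen U} {hD : IsAffineOpen D}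
    {hle : D ≤ U} (hr : ∃ r : Γ(S, U), S.basicOpen r = D) {W : P.Opens} (s : Γ(F, W))
    {x : ProjectiveSpectrum (𝒮.deg U hU)} {y : ProjectiveSpectrum (𝒮.deg D hD)}
    (h : Over hU hD hle x y) (hx : RelProj.emb p chart U hU x ∈ W) (hy : RelProj.emb p chart D hD y ∈ W) :
    pv lam D hD s y hy = MT ℳ h (pv lam U hU s x hx) := by
  obtain ⟨r, rfl⟩ := hr
  obtain rfl : x = ProjectiveSpectrum.comap (𝒮.res hU hD hle) (𝒮.irrelevant_le_map U hU r) y :=
    Over.eq h rfl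
  exact (hc U hU r W s y hy hx).trans (locModMap_eq_MT ℳ r y _)

section sections

variable (hP : RelProj.IsRelProj 𝒮 p chart) (hℳ : Coh.IsQCoh ((AMod.toOS 𝒮.toQCAlg).obj ℳ.mod))
  (hF : RelProj.IsRelTilde 𝒮 p chart ℳ n F lam)

include hF in
theorem sec_ext {U : S.Opens} (hU : IsAffineOpen U) {W : P.Opens} (hW : W ≤ p ⁻¹ᵁ U)
    {s t : Γ(F, W)} (h : ∀ (y : ProjectiveSpectrum (𝒮.deg U hU)) (hy : RelProj.emb p chart U hU y ∈ W),
      pv lam U hU s y hy = pv lam U hU t y hy) : s = t :=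
  (hF.bijective U hU W hW).1 (tv_ext (U := RelProj.emb p chart U hU ⁻¹ᵁ W) fun y hy => h y hy)

include hF in
/-- Sections are determined by their values, in charts around each point. -/
theorem sec_ext_cover {W : P.Opens} {s t : Γ(F, W)}
    (h : ∀ z ∈ W, ∃ (D : S.Opens) (hD : IsAffineOpen D), p z ∈ D ∧
      ∀ (y : ProjectiveSpectrum (𝒮.deg D hD)) (hy : RelProj.emb p chart D hD y ∈ W),
        pv lam D hD s y hy = pv lam D hD t y hy) : s = t := by
  choose D hD hzD hpv using h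
  refine res_ext (fun z : W => W ⊓ p ⁻¹ᵁ D z.1 z.2) (fun _ => inf_le_left)
    (fun z hz => Opens.mem_iSup.2 ⟨⟨z, hz⟩, hz, hzD z hz⟩) fun z => ?_
  refine sec_ext hF (hD z.1 z.2) inf_le_right fun y hy => ?_
  rw [pv_res, pv_res]
  exact hpv z.1 z.2 y hy.1

include hF in
theorem sec_ext_all {W : P.Opens} {s t : Γ(F, W)}
    (h : ∀ (U : S.Opens) (hU : IsAffineOpen U) (y : ProjectiveSpectrum (𝒮.deg U hU))
      (hy : RelProj.emb p chart U hU y ∈ W), pv lam U hU s y hy = pv lam U hU t y hy) : s = t :=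
  sec_ext_cover hF fun z _ => by
    obtain ⟨U, hU, hzU, -⟩ := exists_isAffineOpen_mem_and_subset (x := p z) (U := (⊤ : S.Opens)) trivial
    exact ⟨U, hU, hzU, h U hU⟩

include hF in
/-- A section in a chart gives a section of the module. -/
theorem exists_sec (U : S.Opens) (hU : IsAffineOpen U) (V : (Proj (𝒮.deg U hU)).Opens)
    (q : Γ(GrMod.tilde (𝒮.deg U hU) (ℳ.deg U hU) n, V)) :
    ∃ s : Γ(F, RelProj.emb p chart U hU ''ᵁ V),
      ∀ (y : ProjectiveSpectrum (𝒮.deg U hU))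
        (hy : RelProj.emb p chart U hU y ∈ RelProj.emb p chart U hU ''ᵁ V) (hy' : y ∈ V),
        pv lam U hU s y hy = tv q y hy' := by
  have hle : RelProj.emb p chart U hU ⁻¹ᵁ (RelProj.emb p chart U hU ''ᵁ V) ≤ V :=
    ((RelProj.emb p chart U hU).preimage_image_eq V).le
  obtain ⟨s, hs⟩ := (hF.bijective U hU _ (image_le U hU V)).2
    (Groth.QCohMod.res (GrMod.tilde (𝒮.deg U hU) (ℳ.deg U hU) n) hle q)
  refine ⟨s, fun y hy hy' => ?_⟩
  rw [pv]
  exact congrArg (fun t => tv t y hy) hs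

include hF in
theorem isQCoh_of_isRelTilde : Coh.IsQCoh F := by
  refine Groth.QCohMod.isQCoh_of_forall_exists F fun z => ?_
  obtain ⟨U, hU, hzU, -⟩ := exists_isAffineOpen_mem_and_subset (x := p z) (U := (⊤ : S.Opens)) trivial
  refine ⟨p ⁻¹ᵁ U, hzU, ?_⟩
  obtain ⟨φ⟩ := Groth.RelTw.nonempty_restrict_iso (RelProj.emb p chart U hU) (lam U hU)
    (fun V => hF.bijective U hU _ (image_le U hU V))
  have hq : (F.restrict (RelProj.emb p chart U hU)).IsQuasicoherent :=
    (Groth.QCohMod.isQCoh_iff_of_iso φ).2 (isQuasicoherent (𝒮.deg U hU) (ℳ.deg U hU) n)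
  let e := (chart U hU).hom
  have he : e ≫ RelProj.emb p chart U hU = (p ⁻¹ᵁ U).ι := Iso.hom_inv_id_assoc _ _
  refine (Groth.QCohMod.isQCoh_iff_of_iso
    ((Scheme.Modules.restrictFunctorCongr he.symm).app F ≪≫
      (Scheme.Modules.restrictFunctorComp _ _).app F)).mpr ?_
  exact Scheme.Modules.isQuasicoherent_restrictFunctor e (F.restrict (RelProj.emb p chart U hU))

end sections

/-! ### Morphisms into `(ℳ(n))~` -/

section lift

variable {G : P.Modules} (ψ : ∀ (U : S.Opens) (hU : IsAffineOpen U), G ⟶ locT p chart ℳ n U hU)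
  (hP : RelProj.IsRelProj 𝒮 p chart) (hℳ : Coh.IsQCoh ((AMod.toOS 𝒮.toQCAlg).obj ℳ.mod))
  (hF : RelProj.IsRelTilde 𝒮 p chart ℳ n F lam)

include hP hℳ hF in
theorem exists_lift_sec (hψ : Compatible ψ) {W : P.Opens} (s : Γ(G, W)) :
    ∃ t : Γ(F, W), ∀ (U : S.Opens) (hU : IsAffineOpen U) (y : ProjectiveSpectrum (𝒮.deg U hU))
      (hy : RelProj.emb p chart U hU y ∈ W), pv lam U hU t y hy = pv ψ U hU s y hy := by
  have key : ∀ (U : {U : S.Opens // IsAffineOpen U}), ∃ t : Γ(F, W ⊓ p ⁻¹ᵁ U.1),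
      ∀ (V : S.Opens) (hV : IsAffineOpen V) (y : ProjectiveSpectrum (𝒮.deg V hV))
        (hy : RelProj.emb p chart V hV y ∈ W ⊓ p ⁻¹ᵁ U.1),
        pv lam V hV t y hy = pv ψ V hV (res G inf_le_left s) y hy := by
    rintro ⟨U, hU⟩
    obtain ⟨t, ht⟩ := (hF.bijective U hU (W ⊓ p ⁻¹ᵁ U) inf_le_right).2
      ((ψ U hU).app _ (res G inf_le_left s))
    have hU' : ∀ (y : ProjectiveSpectrum (𝒮.deg U hU)) (hy : RelProj.emb p chart U hU y ∈ W ⊓ p ⁻¹ᵁ U),
        pv lam U hU t y hy = pv ψ U hU (res G inf_le_left s) y hy :=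
      fun y hy => congrArg (fun q => tv (U := RelProj.emb p chart U hU ⁻¹ᵁ (W ⊓ p ⁻¹ᵁ U)) q y hy) ht
    refine ⟨t, fun V hV y hy => ?_⟩
    obtain ⟨D, hD, hleV, hleU, hrV, hrU, y', x, h1, h2, hx⟩ := exists_local hP (W := W ⊓ p ⁻¹ᵁ U)
      (U := U) (hU := hU) inf_le_right hV y hy
    have hxW : RelProj.emb p chart U hU x ∈ W ⊓ p ⁻¹ᵁ U := hx.symm ▸ hy
    have hy'W : RelProj.emb p chart D hD y' ∈ W ⊓ p ⁻¹ᵁ U := (emb_eq_of_over hP hrV h1) ▸ hy
    refine (MT_bijective ℳ hℳ hrV h1).1 ?_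
    rw [← (compatible_of_isRelTilde hF).pv_eq_MT hrV t h1 hy hy'W,
      ← hψ.pv_eq_MT hrV _ h1 hy hy'W, (compatible_of_isRelTilde hF).pv_eq_MT hrU t h2 hxW hy'W,
      hψ.pv_eq_MT hrU _ h2 hxW hy'W, hU']
  choose t ht using key
  obtain ⟨T, hT, -⟩ := res_glue (M := F) (U := W) (fun U : {U : S.Opens // IsAffineOpen U} => W ⊓ p ⁻¹ᵁ U.1)
    (fun _ => inf_le_left) (fun z hz => by
      obtain ⟨U, hU, hzU, -⟩ := exists_isAffineOpen_mem_and_subset (x := p z) (U := (⊤ : S.Opens)) trivial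
      exact Opens.mem_iSup.2 ⟨⟨U, hU⟩, hz, hzU⟩) t (fun U V => sec_ext_all hF fun Q hQ y hy => by
      rw [pv_res, pv_res, ht, ht, pv_res, pv_res])
  refine ⟨T, fun U hU y hy => ?_⟩
  have hy' : RelProj.emb p chart U hU y ∈ W ⊓ p ⁻¹ᵁ U := ⟨hy, p_emb_mem U hU y⟩
  rw [← pv_res lam U hU inf_le_left T y hy', hT ⟨U, hU⟩, ht ⟨U, hU⟩ U hU y hy', pv_res]

include hP hℳ hF in
/-- Compatible maps to the charts come from exactly one map. -/
theorem existsUnique_lift (hψ : Compatible ψ) :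
    ∃! φ : G ⟶ F, ∀ (U : S.Opens) (hU : IsAffineOpen U), φ ≫ lam U hU = ψ U hU := by
  choose T hT using fun (W : P.Opens) (s : Γ(G, W)) => exists_lift_sec ψ hP hℳ hF hψ s
  refine ⟨⟨PresheafOfModules.homMk
    { app := fun W => AddCommGrpCat.ofHom (AddMonoidHom.mk' (T W.unop) fun s t => sec_ext_all hF fun U hU y hy =>
          (hT _ _ U hU y hy).trans ((pv_add ψ U hU s t y hy).trans
            ((congrArg₂ (· + ·) (hT _ s U hU y hy).symm (hT _ t U hU y hy).symm).trans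
              (pv_add lam U hU _ _ y hy).symm)))
      naturality := fun W W' i => by
        ext s
        exact sec_ext_all hF fun U hU y hy =>
          (hT _ _ U hU y hy).trans ((pv_res ψ U hU (leOfHom i.unop) s y hy).trans
            (((pv_res lam U hU (leOfHom i.unop) _ y hy).trans (hT _ _ U hU y _)).symm)) }
    (fun W r s => sec_ext_all hF fun U hU y hy =>
      (hT _ _ U hU y hy).trans ((pv_smul ψ U hU r s y hy).trans
        (((pv_smul lam U hU r _ y hy).trans (congrArg (_ • ·) (hT _ s U hU y hy))).symm)))⟩, fun U hU => ?_, fun φ' hφ' => ?_⟩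
  · ext W s
    exact tv_ext (U := RelProj.emb p chart U hU ⁻¹ᵁ W) fun y hy => hT W s U hU y hy
  · refine Scheme.Modules.hom_ext _ _ fun W => ?_
    ext s
    refine sec_ext_all hF fun U hU y hy => Eq.trans ?_ (hT W s U hU y hy).symm
    exact congrArg (fun q => tv (U := RelProj.emb p chart U hU ⁻¹ᵁ W) q y hy)
      congr(($(hφ' U hU)).app W s)

include hP hℳ hF in
theorem existsUnique_iso {F' : P.Modules}
    (lam' : ∀ (U : S.Opens) (hU : IsAffineOpen U), F' ⟶ locT p chart ℳ n U hU)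
    (hF' : RelProj.IsRelTilde 𝒮 p chart ℳ n F' lam') :
    (∃! φ : F ⟶ F', ∀ (U : S.Opens) (hU : IsAffineOpen U), φ ≫ lam' U hU = lam U hU) ∧
      ∀ φ : F ⟶ F', (∀ (U : S.Opens) (hU : IsAffineOpen U), φ ≫ lam' U hU = lam U hU) → IsIso φ := by
  refine ⟨existsUnique_lift lam hP hℳ hF' (compatible_of_isRelTilde hF), fun φ hφ => ?_⟩
  obtain ⟨χ, hχ, -⟩ := existsUnique_lift lam' hP hℳ hF (compatible_of_isRelTilde hF')
  refine ⟨χ, ?_, ?_⟩
  · exact (existsUnique_lift lam hP hℳ hF (compatible_of_isRelTilde hF)).unique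
      (fun U hU => by rw [Category.assoc, hχ, hφ]) (fun U hU => Category.id_comp _)
  · exact (existsUnique_lift lam' hP hℳ hF' (compatible_of_isRelTilde hF')).unique
      (fun U hU => by rw [Category.assoc, hφ, hχ]) (fun U hU => Category.id_comp _)

end lift

end Groth.RelTilde
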