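import Groth.Prelude.Def_GrMod3
import Groth.Agent.RelTwist.Sections
import Groth.Agent.Ega2Proj.Generators

/-!
# `M(n)~` for gradings by additive subgroups: sections, values, quasi-coherence
-/

universe u

open CategoryTheory AlgebraicGeometry Opposite TopologicalSpace DirectSum Limits
open Groth.QCohMod (res resFun)

set_option backward.isDefEq.respectTransparency.types false

namespace Groth.RelTilde

open Groth.Ega2Proj (exists_point_of_notMem_radical mem_radical_iff_forall_point irrelevant_le_ideal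
  exists_bound_mem_irrelevant_pow)
open Groth.RelTw (exists_pos_notMem exists_fun_eq_frac mem_basicOpen_iff_of_frac)

variable {A σ : Type u} [CommRing A] [SetLike σ A] [AddSubgroupClass σ A] (𝒜 : ℕ → σ) [GradedRing 𝒜]
  {M τ : Type u} [AddCommGroup M] [Module A M] [SetLike τ M] [AddSubgroupClass τ M]
  (ℳ : ℕ → τ) [DirectSum.Decomposition ℳ] [SetLike.GradedSMul 𝒜 ℳ]



theorem smul_mem {a : A} {m : M} {e i k : ℕ} (ha : a ∈ 𝒜 e) (hm : m ∈ ℳ i) (hk : e + i = k) :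
    a • m ∈ ℳ k :=
  hk ▸ SetLike.GradedSMul.smul_mem ha hm

/-- Components of `g • x` for homogeneous `g`. -/
theorem decompose_smul_of_mem_left {e : ℕ} {g : A} (hg : g ∈ 𝒜 e) (x : M) (k : ℕ) :
    (decompose ℳ (g • x) (e + k) : M) = g • (decompose ℳ x k : M) := by
  induction x using DirectSum.Decomposition.inductionOn ℳ with
  | zero => simp
  | homogeneous m =>
    rename_i i
    by_cases h : i = k
    · subst h
      rw [decompose_of_mem_same ℳ m.2,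
        decompose_of_mem_same ℳ (smul_mem 𝒜 ℳ hg m.2 rfl)]
    · rw [decompose_of_mem_ne ℳ m.2 h, smul_zero,
        decompose_of_mem_ne ℳ (smul_mem 𝒜 ℳ hg m.2 rfl)]
      exact fun hc => h (Nat.add_left_cancel hc)
  | add x y hx hy => simp [smul_add, hx, hy]

/-- Components of `c • m` for homogeneous `m`. -/
theorem decompose_smul_of_mem_right {i : ℕ} {m : M} (hm : m ∈ ℳ i) (c : A) (j : ℕ) :
    (decompose ℳ (c • m) (j + i) : M) = (decompose 𝒜 c j : A) • m := by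
  induction c using DirectSum.Decomposition.inductionOn 𝒜 with
  | zero => simp
  | homogeneous a =>
    rename_i k
    by_cases h : k = j
    · subst h
      rw [decompose_of_mem_same 𝒜 a.2,
        decompose_of_mem_same ℳ (smul_mem 𝒜 ℳ a.2 hm rfl)]
    · rw [decompose_of_mem_ne 𝒜 a.2 h, zero_smul,
        decompose_of_mem_ne ℳ (smul_mem 𝒜 ℳ a.2 hm rfl)]
      exact fun hc => h (Nat.add_right_cancel hc)
  | add x y hx hy => simp [add_smul, hx, hy]

/-- The annihilator of a homogeneous element is a homogeneous ideal. -/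
theorem ker_toSpanSingleton_isHomogeneous {i : ℕ} {m : M} (hm : m ∈ ℳ i) :
    Ideal.IsHomogeneous 𝒜 (LinearMap.ker (LinearMap.toSpanSingleton A M m)) := by
  intro j c hc
  rw [LinearMap.mem_ker, LinearMap.toSpanSingleton_apply] at hc ⊢
  rw [← decompose_smul_of_mem_right 𝒜 ℳ hm c j, hc]
  simp

theorem mk_eq_zero_iff {x : ProjectiveSpectrum 𝒜} {m : M}
    {s : x.asHomogeneousIdeal.toIdeal.primeCompl} :
    (LocalizedModule.mk m s : GrMod.LocMod 𝒜 (M := M) x) = 0 ↔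
      ∃ u : A, u ∉ x.asHomogeneousIdeal ∧ u • m = 0 := by
  rw [← LocalizedModule.zero_mk s, LocalizedModule.mk_eq]
  constructor
  · rintro ⟨u, hu⟩
    refine ⟨u * s, x.asHomogeneousIdeal.toIdeal.primeCompl.mul_mem u.2 s.2, ?_⟩
    simpa [Submonoid.smul_def, mul_smul] using hu
  · rintro ⟨u, hu, hum⟩
    exact ⟨⟨u, hu⟩, by simp [Submonoid.smul_def, smul_comm u (s : A), hum]⟩

/-- A homogeneous element whose fractions vanish on all of `D₊(f)` is killed by a power of `f`. -/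
theorem exists_pow_smul_eq_zero {d : ℕ} (hd : 0 < d) {f : A} (hf : f ∈ 𝒜 d) {i : ℕ} {m : M}
    (hm : m ∈ ℳ i)
    (h : ∀ x : ProjectiveSpectrum 𝒜, f ∉ x.asHomogeneousIdeal →
      ∃ u : A, u ∉ x.asHomogeneousIdeal ∧ u • m = 0) :
    ∃ N : ℕ, f ^ N • m = 0 := by
  by_contra hN
  push Not at hN
  obtain ⟨x, hx, hfx⟩ := exists_point_of_notMem_radical 𝒜 hd hf
    (ker_toSpanSingleton_isHomogeneous 𝒜 ℳ hm) (fun ⟨N, hmem⟩ => hN N (by simpa using hmem))
  obtain ⟨u, hu, hum⟩ := h x hfx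
  exact hu (hx (by simpa using hum))

/-- Two fractions that agree where both are defined satisfy the cross relation up to a power of the
product of the denominators. -/
theorem exists_pow_smul_sub_eq_zero {e e' i i' : ℕ} (he : 0 < e) {g g' : A} (hg : g ∈ 𝒜 e)
    (hg' : g' ∈ 𝒜 e') {m m' : M} (hm : m ∈ ℳ i) (hm' : m' ∈ ℳ i') (hi : e' + i = e + i')
    (h : ∀ (x : ProjectiveSpectrum 𝒜) (hx : g ∉ x.asHomogeneousIdeal)
      (hx' : g' ∉ x.asHomogeneousIdeal),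
      (LocalizedModule.mk m ⟨g, hx⟩ : GrMod.LocMod 𝒜 (M := M) x) =
        LocalizedModule.mk m' ⟨g', hx'⟩) :
    ∃ N : ℕ, (g * g') ^ N • (g' • m - g • m') = 0 := by
  refine exists_pow_smul_eq_zero 𝒜 ℳ (Nat.add_pos_left he e') (SetLike.mul_mem_graded hg hg')
    (sub_mem (smul_mem 𝒜 ℳ hg' hm rfl) (smul_mem 𝒜 ℳ hg hm' hi.symm)) fun x hx => ?_
  obtain ⟨u, hu⟩ := LocalizedModule.mk_eq.mp
    (h x (fun h => hx (x.asHomogeneousIdeal.toIdeal.mul_mem_right _ h))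
      (fun h => hx (x.asHomogeneousIdeal.toIdeal.mul_mem_left _ h)))
  exact ⟨u, u.2, by simpa [Submonoid.smul_def, smul_sub, sub_eq_zero] using hu⟩

/-- Near each point a section is one fraction on a basic open inside the given one, with a
denominator of positive degree. -/
theorem exists_local_frac (n : ℤ) {d : ℕ} (hd : 0 < d) {f : A} (hf : f ∈ 𝒜 d)
    (s : GrMod.sect 𝒜 ℳ n (op (ProjectiveSpectrum.basicOpen 𝒜 f)))
    (x : ProjectiveSpectrum.basicOpen 𝒜 f) :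
    ∃ (e i : ℕ) (g : A) (m : M), 0 < e ∧ g ∈ 𝒜 e ∧ m ∈ ℳ i ∧ (i : ℤ) = e + n ∧
      g ∉ x.1.asHomogeneousIdeal ∧
      ∀ (y : ProjectiveSpectrum 𝒜) (hy : g ∉ y.asHomogeneousIdeal),
        ∃ hyf : y ∈ ProjectiveSpectrum.basicOpen 𝒜 f,
          (s.1 ⟨y, hyf⟩).1 = LocalizedModule.mk m ⟨g, hy⟩ := by
  classical
  obtain ⟨V, hxV, ι, i, j, ⟨a, ha⟩, ⟨t, ht⟩, hnin, hdeg, hval⟩ := s.2 x
  replace hdeg : (i : ℤ) = j + n ∨ a = 0 := hdeg
  obtain ⟨_, ⟨g₀, rfl⟩, hxg₀, hg₀V⟩ :=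
    (ProjectiveSpectrum.isTopologicalBasis_basic_opens 𝒜).exists_subset_of_mem_open hxV V.2
  -- a homogeneous component of the denominator of the basic open
  obtain ⟨k, hk⟩ : ∃ k, (decompose 𝒜 g₀ k : A) ∉ x.1.asHomogeneousIdeal := by
    by_contra hc
    push Not at hc
    refine hxg₀ (?_ : g₀ ∈ x.1.asHomogeneousIdeal.toIdeal)
    rw [← sum_support_decompose 𝒜 g₀]
    exact Ideal.sum_mem _ fun k _ => hc k
  set h := (decompose 𝒜 g₀ k : A)
  have hh : h ∈ 𝒜 k := SetLike.coe_mem _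
  have hmem : ∀ (y : ProjectiveSpectrum 𝒜), f * h ∉ y.asHomogeneousIdeal → y ∈ V := fun y hy => by
    refine hg₀V fun hg₀ => hy ?_
    exact y.asHomogeneousIdeal.toIdeal.mul_mem_left _
      (y.asHomogeneousIdeal.isHomogeneous k hg₀)
  -- raise the power of `f` until the degree of the numerator is nonnegative
  obtain ⟨L, hL, hL'⟩ : ∃ L : ℕ, 0 < L ∧ 0 ≤ ((L * (d + k) + j : ℕ) : ℤ) + n :=
    ⟨n.natAbs + 1, Nat.succ_pos _, by
      have : n.natAbs + 1 ≤ (n.natAbs + 1) * (d + k) := Nat.le_mul_of_pos_right _ (by omega)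
      omega⟩
  set c := (f * h) ^ L
  have hc : c ∈ 𝒜 (L * (d + k)) := by
    simpa using SetLike.pow_mem_graded L (SetLike.mul_mem_graded hf hh)
  have hcy : ∀ (y : ProjectiveSpectrum 𝒜), c * t ∉ y.asHomogeneousIdeal →
      f * h ∉ y.asHomogeneousIdeal := fun y hy h' => hy
    (y.asHomogeneousIdeal.toIdeal.mul_mem_right _
      (y.asHomogeneousIdeal.toIdeal.pow_mem_of_mem h' L hL))
  refine ⟨L * (d + k) + j, (((L * (d + k) + j : ℕ) : ℤ) + n).toNat, c * t, c • a, ?_,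
    SetLike.mul_mem_graded hc ht, ?_, Int.toNat_of_nonneg hL', ?_, fun y hy => ?_⟩
  · have : 0 < L * (d + k) := Nat.mul_pos hL (by omega)
    omega
  · rcases hdeg with h' | h'
    · exact smul_mem 𝒜 ℳ hc ha (by omega)
    · rw [h', smul_zero]; exact zero_mem _
  · refine x.1.asHomogeneousIdeal.toIdeal.primeCompl.mul_mem
      (pow_mem (x.1.asHomogeneousIdeal.toIdeal.primeCompl.mul_mem
        (show f ∈ x.1.asHomogeneousIdeal.toIdeal.primeCompl from x.2) hk) L) (hnin ⟨x.1, hxV⟩)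
  · have hyV := hmem y (hcy y hy)
    refine ⟨(ι ⟨y, hyV⟩).2, (hval ⟨y, hyV⟩).trans ?_⟩
    refine LocalizedModule.mk_eq.mpr ⟨1, ?_⟩
    simp only [one_smul, Submonoid.smul_def]
    rw [smul_smul, mul_comm c t]

/-- Every section of `M(n)~` over `D₊(f)` is one fraction `m / f ^ k`. -/
theorem exists_frac (n : ℤ) {d : ℕ} (hd : 0 < d) {f : A} (hf : f ∈ 𝒜 d)
    (s : GrMod.sect 𝒜 ℳ n (op (ProjectiveSpectrum.basicOpen 𝒜 f))) :
    ∃ (k i : ℕ) (m : ℳ i), (i : ℤ) = k * d + n ∧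
      ∀ x : ProjectiveSpectrum.basicOpen 𝒜 f,
        (s.1 x).1 =
          (LocalizedModule.mk m.1 ⟨f ^ k, fun h => (ProjectiveSpectrum.mem_basicOpen 𝒜 f x.1).mp x.2
            (x.1.isPrime.mem_of_pow_mem k h)⟩ : GrMod.LocMod 𝒜 (M := M) x.1) := by
  classical
  -- the denominators of all local fractions
  let G : Set A := {g | ∃ (e i : ℕ) (m : M), 0 < e ∧ g ∈ 𝒜 e ∧ m ∈ ℳ i ∧ (i : ℤ) = e + n ∧
    ∀ (y : ProjectiveSpectrum 𝒜) (hy : g ∉ y.asHomogeneousIdeal),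
      ∃ hyf : y ∈ ProjectiveSpectrum.basicOpen 𝒜 f,
        (s.1 ⟨y, hyf⟩).1 = LocalizedModule.mk m ⟨g, hy⟩}
  have hG : f ∈ (Ideal.span G).radical := by
    refine (mem_radical_iff_forall_point 𝒜 (HomogeneousIdeal.mem_irrelevant_of_mem 𝒜 hd hf)
      (Ideal.homogeneous_span 𝒜 _ fun g hg => ⟨_, hg.choose_spec.choose_spec.choose_spec.2.1⟩)).mpr fun x hx => ?_
    by_contra hxf
    obtain ⟨e, i, g, m, he, hg, hm, hi, hgx, hs⟩ := exists_local_frac 𝒜 ℳ n hd hf s ⟨x, hxf⟩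
    exact hgx (hx (Ideal.subset_span ⟨e, i, m, he, hg, hm, hi, hs⟩))
  obtain ⟨N₀, hN₀⟩ := hG
  obtain ⟨F, hFG, hfF⟩ := Submodule.mem_span_finite_of_mem_span hN₀
  choose e i m he hg hm hi hs using fun g : {g // g ∈ F} => hFG g.2
  -- cross relations
  have hpair : ∀ p q : {g // g ∈ F},
      ∃ N : ℕ, ((p : A) * q) ^ N • ((q : A) • m p - (p : A) • m q) = 0 := fun p q => by
    refine exists_pow_smul_sub_eq_zero 𝒜 ℳ (he p) (hg p) (hg q) (hm p) (hm q) ?_ fun x hx hx' => ?_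
    · have := hi p; have := hi q; omega
    · obtain ⟨_, h₁⟩ := hs p x hx
      obtain ⟨_, h₂⟩ := hs q x hx'
      exact h₁.symm.trans h₂
  choose Np hNp using hpair
  obtain ⟨K, hK⟩ : ∃ K, ∀ p q, Np p q ≤ K :=
    ⟨(Finset.univ : Finset ({g // g ∈ F} × {g // g ∈ F})).sup fun r => Np r.1 r.2, fun p q =>
      Finset.le_sup (f := fun r : {g // g ∈ F} × {g // g ∈ F} => Np r.1 r.2)
        (Finset.mem_univ (p, q))⟩
  let g' : {g // g ∈ F} → A := fun p => (p : A) ^ (K + 1)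
  let m' : {g // g ∈ F} → M := fun p => (p : A) ^ K • m p
  have hcross : ∀ p q, g' q • m' p = g' p • m' q := fun p q => by
    have h₀ : ((p : A) * q) ^ K • ((q : A) • m p - (p : A) • m q) = 0 := by
      rw [← Nat.sub_add_cancel (hK p q), pow_add, mul_smul, hNp, smul_zero]
    rw [smul_sub, sub_eq_zero, smul_smul, smul_smul] at h₀
    simp only [g', m', smul_smul]
    calc ((q : A) ^ (K + 1) * (p : A) ^ K) • m p = (((p : A) * q) ^ K * q) • m p := by ring_nf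
      _ = (((p : A) * q) ^ K * p) • m q := h₀
      _ = ((p : A) ^ (K + 1) * (q : A) ^ K) • m q := by ring_nf
  -- a power of `f` in the ideal of the new denominators
  have hfrad : f ∈ (Ideal.span (Set.range g')).radical := by
    rw [← Ideal.radical_idem]
    refine ⟨N₀, ?_⟩
    refine (Ideal.span_le.mpr ?_) hfF
    intro a ha
    exact ⟨K + 1, Ideal.subset_span ⟨⟨a, ha⟩, rfl⟩⟩
  obtain ⟨N₁, hN₁⟩ := hfrad
  set N := N₁ + n.natAbs with hN
  have hfN : f ^ N ∈ Ideal.span (Set.range g') := by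
    rw [hN, pow_add]; exact Ideal.mul_mem_right _ _ hN₁
  obtain ⟨c, hc⟩ := (Submodule.mem_span_range_iff_exists_fun A).mp hfN
  simp only [smul_eq_mul] at hc
  have hnum : ∀ q, g' q • (∑ p, c p • m' p) = f ^ N • m' q := fun q => by
    rw [Finset.smul_sum, ← hc, Finset.sum_smul]
    refine Finset.sum_congr rfl fun p _ => ?_
    rw [smul_comm, hcross p q, smul_smul]
  obtain ⟨i₀, hi₀⟩ : ∃ i₀ : ℕ, (i₀ : ℤ) = (N : ℤ) * d + n := by
    refine ⟨((N : ℤ) * d + n).toNat, Int.toNat_of_nonneg ?_⟩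
    have : N ≤ N * d := Nat.le_mul_of_pos_right _ hd
    have : (N : ℤ) ≤ (N : ℤ) * d := by exact_mod_cast this
    omega
  refine ⟨N, i₀, ⟨(decompose ℳ (∑ p, c p • m' p) i₀ : M), SetLike.coe_mem _⟩, hi₀, fun x => ?_⟩
  -- some denominator does not vanish at `x`
  obtain ⟨q, hq⟩ : ∃ q : {g // g ∈ F}, (q : A) ∉ x.1.asHomogeneousIdeal := by
    by_contra hc'
    push Not at hc'
    exact (ProjectiveSpectrum.mem_basicOpen 𝒜 f x.1).mp x.2 (x.1.isPrime.mem_of_pow_mem N₀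
      ((Ideal.span_le.mpr fun a ha => hc' ⟨a, ha⟩) hfF))
  obtain ⟨_, hsx⟩ := hs q x.1 hq
  refine hsx.trans ?_
  have hq' : g' q • (decompose ℳ (∑ p, c p • m' p) i₀ : M) = f ^ N • m' q := by
    have hgq : g' q ∈ 𝒜 ((K + 1) * e q) := by
      simpa using SetLike.pow_mem_graded (K + 1) (hg q)
    rw [← decompose_smul_of_mem_left 𝒜 ℳ hgq _ i₀, hnum q]
    refine decompose_of_mem_same ℳ (smul_mem 𝒜 ℳ (e := N * d) (i := K * e q + i q)
      (by simpa using SetLike.pow_mem_graded N hf)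
      (smul_mem 𝒜 ℳ (by simpa using SetLike.pow_mem_graded K (hg q)) (hm q) rfl) ?_)
    have := hi q
    zify
    linarith
  refine LocalizedModule.mk_eq.mpr
    ⟨⟨(q : A) ^ K, fun h => hq (x.1.isPrime.mem_of_pow_mem K h)⟩, ?_⟩
  simp only [Submonoid.smul_def]
  rw [smul_smul, smul_smul, ← pow_succ]
  exact (mul_smul _ _ _).trans ((smul_comm _ _ _).trans hq'.symm)



/-- A fraction of the right degree is a value of `M(n)~`. -/
theorem mk_mem_tildeAt (n : ℤ) {x : ProjectiveSpectrum 𝒜} {i j : ℕ} {m : M} (hm : m ∈ ℳ i)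
    {s : A} (hs : s ∈ 𝒜 j) (hsx : s ∉ x.asHomogeneousIdeal)
    (hdeg : (i : ℤ) = j + n ∨ m = 0) :
    (LocalizedModule.mk m ⟨s, hsx⟩ : GrMod.LocMod 𝒜 (M := M) x) ∈ GrMod.tildeAt 𝒜 ℳ n x := by
  rcases hdeg with h | h
  · exact Submodule.subset_span ⟨i, j, ⟨m, hm⟩, ⟨s, hs⟩, hsx, h, rfl⟩
  · rw [h, LocalizedModule.zero_mk]; exact zero_mem _


/-- Every value of `M(n)~` is a single fraction. -/
theorem exists_frac_of_mem_tildeAt (n : ℤ) {x : ProjectiveSpectrum 𝒜}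
    {q : GrMod.LocMod 𝒜 (M := M) x} (hq : q ∈ GrMod.tildeAt 𝒜 ℳ n x) :
    ∃ (i j : ℕ) (m : M) (s : A) (hs : s ∉ x.asHomogeneousIdeal), m ∈ ℳ i ∧ s ∈ 𝒜 j ∧
      ((i : ℤ) = j + n ∨ m = 0) ∧ q = LocalizedModule.mk m ⟨s, hs⟩ := by
  induction hq using Submodule.span_induction with
  | mem q hq =>
    obtain ⟨i, j, m, s, hs, hdeg, rfl⟩ := hq
    exact ⟨i, j, m, s, hs, m.2, s.2, Or.inl hdeg, rfl⟩
  | zero =>
    exact ⟨0, 0, 0, 1, fun h => x.isPrime.ne_top ((Ideal.eq_top_iff_one _).mpr h), zero_mem _,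
      SetLike.GradedOne.one_mem, Or.inr rfl, (LocalizedModule.zero_mk _).symm⟩
  | add q q' _ _ hq hq' =>
    obtain ⟨i, j, a, s, hs, ha, hsj, hd, rfl⟩ := hq
    obtain ⟨i', j', b, t, ht, hb, htj, hd', rfl⟩ := hq'
    rcases hd with hd | rfl
    · rcases hd' with hd' | rfl
      · refine ⟨j + i', j + j', t • a + s • b, s * t,
          x.asHomogeneousIdeal.toIdeal.primeCompl.mul_mem hs ht,
          add_mem (smul_mem 𝒜 ℳ htj ha (by omega)) (smul_mem 𝒜 ℳ hsj hb rfl),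
          SetLike.mul_mem_graded hsj htj, Or.inl (by push_cast; omega), ?_⟩
        rw [LocalizedModule.mk_add_mk]
        rfl
      · exact ⟨i, j, a, s, hs, ha, hsj, Or.inl hd, by simp⟩
    · exact ⟨i', j', b, t, ht, hb, htj, hd', by simp⟩
  | smul c q _ hq =>
    obtain ⟨i, j, a, s, hs, ha, hsj, hd, rfl⟩ := hq
    obtain ⟨⟨k, ⟨r, hr⟩, ⟨t, ht⟩, htx⟩, rfl⟩ := HomogeneousLocalization.mk_surjective c
    refine ⟨k + i, k + j, r • a, t * s, x.asHomogeneousIdeal.toIdeal.primeCompl.mul_mem htx hs,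
      smul_mem 𝒜 ℳ hr ha rfl, SetLike.mul_mem_graded ht hsj,
      hd.imp (fun h => by push_cast; omega) (fun h => by rw [h, smul_zero]), ?_⟩
    rw [GrMod.a0_smul_def, HomogeneousLocalization.val_mk, LocalizedModule.mk_smul_mk]
    rfl

/-- The section given by one fraction. -/
def fracSect (n : ℤ) (U : Opens (ProjectiveSpectrum.top 𝒜)) {i j : ℕ} (m : M) (hm : m ∈ ℳ i)
    (s : A) (hs : s ∈ 𝒜 j) (hU : ∀ x : U, s ∉ x.1.asHomogeneousIdeal)
    (hdeg : (i : ℤ) = j + n ∨ m = 0) : GrMod.sect 𝒜 ℳ n (op U) :=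
  ⟨fun x => ⟨LocalizedModule.mk m ⟨s, hU x⟩, mk_mem_tildeAt 𝒜 ℳ n hm hs (hU x) hdeg⟩,
    fun x => ⟨U, x.2, 𝟙 U, i, j, ⟨m, hm⟩, ⟨s, hs⟩, hU, hdeg, fun _ => rfl⟩⟩

@[simp] theorem fracSect_apply (n : ℤ) (U : Opens (ProjectiveSpectrum.top 𝒜)) {i j : ℕ} (m : M)
    (hm : m ∈ ℳ i) (s : A) (hs : s ∈ 𝒜 j) (hU : ∀ x : U, s ∉ x.1.asHomogeneousIdeal)
    (hdeg : (i : ℤ) = j + n ∨ m = 0) (x : U) :
    ((fracSect 𝒜 ℳ n U m hm s hs hU hdeg).1 x).1 = LocalizedModule.mk m ⟨s, hU x⟩ := rfl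

theorem sect_ext (n : ℤ) {U : Opens (ProjectiveSpectrum.top 𝒜)}
    {s t : GrMod.sect 𝒜 ℳ n (op U)} (h : ∀ x : U, (s.1 x).1 = (t.1 x).1) : s = t :=
  Subtype.ext (funext fun x => Subtype.ext (h x))

/-- The stalk of `M(n)~` is the module of degree-`n` fractions. -/
theorem stalkToFiber_bijective (n : ℤ) (p : ProjectiveSpectrum.top 𝒜) :
    Function.Bijective (TopCat.stalkToFiber (GrMod.isLocFrac 𝒜 ℳ n) p) := by
  constructor
  · refine TopCat.stalkToFiber_injective _ _ fun U V fU hU fV hV e => ?_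
    obtain ⟨U', hxU, iU, i, j, m, s, hs, -, hval⟩ := hU ⟨p, U.2⟩
    obtain ⟨V', hxV, iV, i', j', m', s', hs', -, hval'⟩ := hV ⟨p, V.2⟩
    have h₀ : (LocalizedModule.mk m.1 ⟨s.1, hs ⟨p, hxU⟩⟩ : GrMod.LocMod 𝒜 (M := M) p) =
        LocalizedModule.mk m'.1 ⟨s'.1, hs' ⟨p, hxV⟩⟩ :=
      ((hval ⟨p, hxU⟩).symm.trans (congrArg Subtype.val e)).trans (hval' ⟨p, hxV⟩)
    obtain ⟨u, hu⟩ := LocalizedModule.mk_eq.mp h₀
    let W : OpenNhds (X := ProjectiveSpectrum.top 𝒜) p :=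
      ⟨U' ⊓ V' ⊓ ProjectiveSpectrum.basicOpen 𝒜 (u : A), ⟨⟨hxU, hxV⟩, u.2⟩⟩
    refine ⟨W, homOfLE (fun y hy => iU.le hy.1.1), homOfLE (fun y hy => iV.le hy.1.2), fun w => ?_⟩
    refine Subtype.ext ((hval ⟨w.1, w.2.1.1⟩).trans (Eq.trans ?_ (hval' ⟨w.1, w.2.1.2⟩).symm))
    exact LocalizedModule.mk_eq.mpr ⟨⟨u.1, w.2.2⟩, hu⟩
  · refine TopCat.stalkToFiber_surjective _ _ fun t => ?_
    obtain ⟨i, j, m, s, hs, hm, hsj, hdeg, ht⟩ := exists_frac_of_mem_tildeAt 𝒜 ℳ n t.2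
    let f := fracSect 𝒜 ℳ n (ProjectiveSpectrum.basicOpen 𝒜 s) m hm s hsj (fun x => x.2) hdeg
    exact ⟨⟨ProjectiveSpectrum.basicOpen 𝒜 s, hs⟩, f.1, f.2, Subtype.ext ht.symm⟩

/-- `M(n)~` is zero iff all its sections vanish. -/
theorem isZero_iff (n : ℤ) :
    IsZero (GrMod.tilde 𝒜 ℳ n) ↔
      ∀ (U : Opens (ProjectiveSpectrum.top 𝒜)) (s : GrMod.sect 𝒜 ℳ n (op U)), s = 0 := by
  constructor
  · intro h U s
    have := (IsZero.iff_id_eq_zero _).mp h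
    exact congr(($this).app U s)
  · intro h
    refine (IsZero.iff_id_eq_zero _).mpr (Scheme.Modules.hom_ext _ _ fun U => ?_)
    ext s
    exact h U s

/-- `M~ = 0` when every homogeneous element of positive degree acts locally nilpotently. -/
theorem isZero_of_torsion (n : ℤ)
    (h : ∀ (z : M) (d : ℕ) (f : A), 0 < d → f ∈ 𝒜 d → ∃ k : ℕ, f ^ k • z = 0) :
    IsZero (GrMod.tilde 𝒜 ℳ n) := by
  refine (isZero_iff 𝒜 ℳ n).mpr fun U s => sect_ext 𝒜 ℳ n fun x => ?_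
  obtain ⟨i, j, m, t, ht, -, -, -, hq⟩ := exists_frac_of_mem_tildeAt 𝒜 ℳ n (s.1 x).2
  obtain ⟨d, g, hd, hg, hgx⟩ : ∃ (d : ℕ) (g : A), 0 < d ∧ g ∈ 𝒜 d ∧ g ∉ x.1.asHomogeneousIdeal := by
    by_contra hc
    push Not at hc
    exact x.1.not_irrelevant_le (irrelevant_le_ideal 𝒜 fun d hd a ha => hc d a hd ha)
  obtain ⟨k, hk⟩ := h m d g hd hg
  rw [hq]
  exact (mk_eq_zero_iff 𝒜).mpr ⟨g ^ k, fun hmem => hgx (x.1.isPrime.mem_of_pow_mem k hmem), hk⟩


/-- Degree-one elements act nilpotently on a module with `M~ = 0`. -/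
theorem pow_smul_eq_zero_of_isZero (h : IsZero (GrMod.tilde 𝒜 ℳ 0)) {g : A} (hg : g ∈ 𝒜 1)
    (z : M) : ∃ k : ℕ, g ^ k • z = 0 := by
  induction z using DirectSum.Decomposition.inductionOn ℳ with
  | zero => exact ⟨0, smul_zero _⟩
  | homogeneous m =>
    rename_i i
    refine exists_pow_smul_eq_zero 𝒜 ℳ one_pos hg m.2 fun x hx => ?_
    have hgi : g ^ i ∈ 𝒜 i := by simpa using SetLike.pow_mem_graded i hg
    let U := ProjectiveSpectrum.basicOpen 𝒜 g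
    let s := fracSect 𝒜 ℳ 0 U m.1 m.2 (g ^ i) hgi
      (fun y hmem => y.2 (y.1.isPrime.mem_of_pow_mem i hmem)) (Or.inl (by simp))
    have hs : (s.1 ⟨x, hx⟩).1 = 0 := by
      rw [(isZero_iff 𝒜 ℳ 0).mp h U s]; rfl
    exact (mk_eq_zero_iff 𝒜).mp hs
  | add x y hx hy =>
    obtain ⟨k, hk⟩ := hx
    obtain ⟨l, hl⟩ := hy
    refine ⟨k + l, ?_⟩
    rw [smul_add, pow_add, mul_smul, smul_comm, mul_smul, hk, hl]
    simp

/-- If `S₊` is generated in degree one and `M~ = 0`, every element of `S₊` acts locally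
nilpotently. -/
theorem exists_pow_smul_eq_zero_of_isZero
    (hgen : (HomogeneousIdeal.irrelevant 𝒜).toIdeal = Ideal.span (𝒜 1 : Set A))
    (h : IsZero (GrMod.tilde 𝒜 ℳ 0)) (z : M) {f : A}
    (hf : f ∈ (HomogeneousIdeal.irrelevant 𝒜).toIdeal) : ∃ k : ℕ, f ^ k • z = 0 := by
  have hle : Ideal.span (𝒜 1 : Set A) ≤
      Ideal.radical (LinearMap.ker (LinearMap.toSpanSingleton A M z)) :=
    Ideal.span_le.mpr fun g hg =>
      (pow_smul_eq_zero_of_isZero 𝒜 ℳ h hg z).imp fun k hk => by simpa using hk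
  obtain ⟨k, hk⟩ := hle (hgen ▸ hf)
  exact ⟨k, by simpa using hk⟩

/-- A module whose high degrees vanish has zero associated sheaf. -/
theorem isZero_of_eventually_bot (n : ℤ) (h : ∃ K : ℕ, ∀ k : ℕ, K ≤ k → ∀ z ∈ ℳ k, z = 0) :
    IsZero (GrMod.tilde 𝒜 ℳ n) := by
  obtain ⟨K, hK⟩ := h
  refine isZero_of_torsion 𝒜 ℳ n fun z d f hd hf => ⟨K, ?_⟩
  induction z using DirectSum.Decomposition.inductionOn ℳ with
  | zero => exact smul_zero _
  | homogeneous m =>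
    rename_i i
    have : f ^ K • (m : M) ∈ ℳ (K * d + i) :=
      smul_mem 𝒜 ℳ (by simpa using SetLike.pow_mem_graded K hf) m.2 rfl
    exact hK _ ((Nat.le_mul_of_pos_right K hd).trans (Nat.le_add_right _ _)) _ this
  | add x y hx hy => rw [smul_add, hx, hy, add_zero]

/-- Conversely, under (TF) a module with zero associated sheaf vanishes in high degree. -/
theorem eventually_bot_of_isZero (hfg : (HomogeneousIdeal.irrelevant 𝒜).toIdeal.FG)
    (hgen : (HomogeneousIdeal.irrelevant 𝒜).toIdeal = Ideal.span (𝒜 1 : Set A))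
    (hTF : ∃ n : ℕ, (Submodule.span A (⋃ k ∈ Set.Ici n, (ℳ k : Set M))).FG)
    (h : IsZero (GrMod.tilde 𝒜 ℳ 0)) : ∃ K : ℕ, ∀ k : ℕ, K ≤ k → ∀ z ∈ ℳ k, z = 0 := by
  classical
  obtain ⟨n, hn⟩ := hTF
  obtain ⟨T, hTsub, hTfin, hTspan⟩ : ∃ T : Set M, T ⊆ (⋃ k ∈ Set.Ici n, (ℳ k : Set M)) ∧ T.Finite ∧
      Submodule.span A T = Submodule.span A (⋃ k ∈ Set.Ici n, (ℳ k : Set M)) := by
    obtain ⟨T, hT, hspan⟩ := (Submodule.fg_span_iff_fg_span_finset_subset _).mp hn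
    exact ⟨T, hT, T.finite_toSet, hspan.symm⟩
  -- one power of `S₊` kills all the generators
  obtain ⟨P, hP⟩ := Ideal.exists_pow_le_of_le_radical_of_fg
    (I := (HomogeneousIdeal.irrelevant 𝒜).toIdeal) (J := (Submodule.span A T).annihilator) (by
      intro f hf
      choose k hk using fun w : hTfin.toFinset =>
        exists_pow_smul_eq_zero_of_isZero 𝒜 ℳ hgen h (w : M) hf
      refine ⟨Finset.univ.sup k, (Submodule.mem_annihilator_span _ _).mpr fun w => ?_⟩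
      rw [← Nat.sub_add_cancel (Finset.le_sup (f := k)
        (Finset.mem_univ (⟨w.1, hTfin.mem_toFinset.mpr w.2⟩ : hTfin.toFinset))), pow_add, mul_smul,
        hk]
      exact smul_zero _) hfg
  obtain ⟨D, hD, hDmem⟩ := exists_bound_mem_irrelevant_pow 𝒜 hfg
  choose deg hdeg using fun w : hTfin.toFinset => Set.mem_iUnion₂.mp
    (hTsub (hTfin.mem_toFinset.mp w.2))
  refine ⟨max n (P * D + Finset.univ.sup deg), fun k hk z hz => ?_⟩
  have hzT : z ∈ Submodule.span A T := hTspan ▸ Submodule.subset_span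
    (Set.mem_iUnion₂.mpr ⟨k, (le_max_left _ _).trans hk, hz⟩)
  rw [← decompose_of_mem_same ℳ hz]
  have key : ∀ y ∈ Submodule.span A T, ∀ c : A, (decompose ℳ (c • y) k : M) = 0 := fun y hy => by
    induction hy using Submodule.span_induction with
    | mem w hw =>
      intro c
      obtain ⟨_, hwd⟩ := hdeg ⟨w, hTfin.mem_toFinset.mpr hw⟩
      set e := deg ⟨w, hTfin.mem_toFinset.mpr hw⟩
      have he : e ≤ Finset.univ.sup deg := Finset.le_sup (Finset.mem_univ _)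
      obtain ⟨j, rfl⟩ : ∃ j, k = j + e := ⟨k - e, by omega⟩
      rw [decompose_smul_of_mem_right 𝒜 ℳ hwd]
      exact Submodule.mem_annihilator.mp (hP (hDmem P j (by omega) _ (SetLike.coe_mem _))) w
        (Submodule.subset_span hw)
    | zero => intro c; simp
    | add a b _ _ ha hb => intro c; simp [smul_add, ha c, hb c]
    | smul a y _ hy => intro c; rw [smul_smul]; exact hy _
  simpa using key z hzT 1



variable (n : ℤ)

theorem pow_smul_val {U : (Proj 𝒜).Opens} (φ : Γ(Proj 𝒜, U))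
    (s : Γ(GrMod.tilde 𝒜 ℳ n, U)) {x : ProjectiveSpectrum 𝒜} (hx : x ∈ U) {a : A} {m : M}
    {b c : x.asHomogeneousIdeal.toIdeal.primeCompl}
    (hφ : (φ.1 ⟨x, hx⟩).val = Localization.mk a b)
    (hs : (s.1 ⟨x, hx⟩).1 = LocalizedModule.mk m c) (K : ℕ) :
    ((φ ^ K • s : Γ(GrMod.tilde 𝒜 ℳ n, U)).1 ⟨x, hx⟩).1 =
      LocalizedModule.mk (a ^ K • m) (b ^ K * c) := by
  change ((φ ^ K).1 ⟨x, hx⟩ • s.1 ⟨x, hx⟩).1 = _
  rw [GrMod.coe_smul_val, hs]
  change ((φ.1 ⟨x, hx⟩ ^ K).val) • LocalizedModule.mk m c = _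
  rw [HomogeneousLocalization.val_pow, hφ, Localization.mk_pow, LocalizedModule.mk_smul_mk]


/-- `M(n)~` is quasi-coherent. -/
theorem isQuasicoherent : (GrMod.tilde 𝒜 ℳ n).IsQuasicoherent := by
  refine QCohMod.isQCoh_of_affine_cover _ fun x => ?_
  obtain ⟨d, f, hd, hf, hfx⟩ := exists_pos_notMem 𝒜 x
  refine ⟨Proj.basicOpen 𝒜 f, Proj.isAffineOpen_basicOpen 𝒜 f hf hd, hfx, fun φ s => ?_,
    fun φ t ht => ?_⟩
  · obtain ⟨k, a, ha, hφ⟩ := exists_fun_eq_frac 𝒜 hd hf φ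
    have hO : ∀ y : ProjectiveSpectrum 𝒜, f ∉ y.asHomogeneousIdeal →
        a ∉ y.asHomogeneousIdeal → y ∈ (Proj 𝒜).basicOpen φ := fun y hy hay =>
      (mem_basicOpen_iff_of_frac 𝒜 φ hy (hφ y hy)).mpr hay
    have hle : Proj.basicOpen 𝒜 (a * f) ≤ (Proj 𝒜).basicOpen φ := fun y hy =>
      hO y (fun h => hy (y.asHomogeneousIdeal.toIdeal.mul_mem_left _ h))
        (fun h => hy (y.asHomogeneousIdeal.toIdeal.mul_mem_right _ h))
    obtain ⟨K, i, m, hi, hm⟩ := exists_frac 𝒜 ℳ n (Nat.add_pos_right (k * d) hd)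
      (SetLike.mul_mem_graded ha hf) (res (GrMod.tilde 𝒜 ℳ n) hle s)
    refine ⟨K, fracSect 𝒜 ℳ n (Proj.basicOpen 𝒜 f) (j := (k * K + K) * d) m.1 m.2
      (f ^ (k * K + K)) (by simpa using SetLike.pow_mem_graded (k * K + K) hf)
      (fun y h => y.2 (y.1.isPrime.mem_of_pow_mem _ h))
      (Or.inl (by rw [hi]; push_cast; ring)), ?_⟩
    refine sect_ext 𝒜 ℳ n fun y => ?_
    obtain ⟨y, hy⟩ := y
    have hyf : f ∉ y.asHomogeneousIdeal := (Proj 𝒜).basicOpen_le φ hy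
    have hya : a ∉ y.asHomogeneousIdeal := (mem_basicOpen_iff_of_frac 𝒜 φ hyf (hφ y hyf)).mp hy
    haveI : y.asHomogeneousIdeal.toIdeal.IsPrime := y.isPrime
    have hyaf : a * f ∉ y.asHomogeneousIdeal :=
      y.asHomogeneousIdeal.toIdeal.primeCompl.mul_mem hya hyf
    refine Eq.trans ?_
      (pow_smul_val 𝒜 ℳ n (resFun _ ((Proj 𝒜).basicOpen_le φ) φ) s hy (hφ y hyf)
        (hm ⟨y, hyaf⟩) K).symm
    refine (LocalizedModule.mk_eq.mpr ⟨1, ?_⟩)
    simp only [one_smul, Submonoid.smul_def, Submonoid.coe_mul, SubmonoidClass.coe_pow, smul_smul]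
    congr 1
    ring
  · obtain ⟨k, a, ha, hφ⟩ := exists_fun_eq_frac 𝒜 hd hf φ
    obtain ⟨p, i, m, hi, hm⟩ := exists_frac 𝒜 ℳ n hd hf t
    obtain ⟨N, hN⟩ := exists_pow_smul_eq_zero 𝒜 ℳ (Nat.add_pos_right (k * d) hd)
      (SetLike.mul_mem_graded ha hf) m.2 fun y hy => by
        have hyf : f ∉ y.asHomogeneousIdeal := fun h =>
          hy (y.asHomogeneousIdeal.toIdeal.mul_mem_left _ h)
        have hya : a ∉ y.asHomogeneousIdeal := fun h =>
          hy (y.asHomogeneousIdeal.toIdeal.mul_mem_right _ h)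
        have hyO := (mem_basicOpen_iff_of_frac 𝒜 φ hyf (hφ y hyf)).mpr hya
        refine (mk_eq_zero_iff 𝒜).mp ((hm ⟨y, hyf⟩).symm.trans ?_)
        exact congrArg (fun r : GrMod.sect 𝒜 ℳ n (op ((Proj 𝒜).basicOpen φ)) =>
          (r.1 ⟨y, hyO⟩).1) ht
    refine ⟨N, sect_ext 𝒜 ℳ n fun y => ?_⟩
    obtain ⟨y, hy⟩ := y
    refine (pow_smul_val 𝒜 ℳ n φ t hy (hφ y hy) (hm ⟨y, hy⟩) N).trans ?_
    refine (mk_eq_zero_iff 𝒜).mpr ⟨f ^ N, fun h => hy (y.isPrime.mem_of_pow_mem N h), ?_⟩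
    rw [smul_smul, ← mul_pow, mul_comm f a]
    exact hN


end Groth.RelTilde
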