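import Groth.Prelude.Def_RelProj3
import Groth.Agent.RelTilde.Sections
import Groth.Agent.RelTwist.Trans
import Groth.Agent.Divisors.QCohLoc

/-!
# The maps of local modules between the charts of a relative Proj
-/

universe u

open CategoryTheory CategoryTheory.Limits AlgebraicGeometry Opposite TopologicalSpace
open scoped HomogeneousIdeal

set_option backward.isDefEq.respectTransparency.types false

noncomputable section

namespace Groth.RelTilde

open Groth.RelTw (Over T T_mk exists_num)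

variable {S : Scheme.{u}} {𝒮 : RelProj.QCGrAlg S} (ℳ : RelProj.GrModule 𝒮)
  {U D D' : S.Opens} {hU : IsAffineOpen U} {hD : IsAffineOpen D} {hD' : IsAffineOpen D'}
  {hle : D ≤ U} {hle' : D' ≤ D} {x : ProjectiveSpectrum (𝒮.deg U hU)}
  {y : ProjectiveSpectrum (𝒮.deg D hD)} {z : ProjectiveSpectrum (𝒮.deg D' hD')}

theorem res_smul' (a : 𝒮.presheaf.obj (op U)) (m : ℳ.mod.val.obj (op U)) :
    ℳ.res hU hD hle (a • m) = 𝒮.res hU hD hle a • ℳ.res hU hD hle m :=
  (ℳ.res hU hD hle).map_smulₛₗ a m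

theorem res_res_apply (m : ℳ.mod.val.obj (op U)) :
    ℳ.res hD hD' hle' (ℳ.res hU hD hle m) = ℳ.res hU hD' (hle'.trans hle) m := by
  change (ℳ.mod.val.map (homOfLE hle').op).hom ((ℳ.mod.val.map (homOfLE hle).op).hom m) = _
  exact (congrArg (fun g => g m) (congrArg (fun k => (k : _ →+ _))
    (show ((ℳ.mod.val.presheaf.map (homOfLE hle).op) ≫ ℳ.mod.val.presheaf.map (homOfLE hle').op).hom =
        (ℳ.mod.val.presheaf.map (homOfLE (hle'.trans hle)).op).hom by
      rw [← Functor.map_comp]; rfl)))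

/-- The value of the map of local modules on a fraction. -/
def MFun (h : Over hU hD hle x y)
    (q : ℳ.mod.val.obj (op U) × x.asHomogeneousIdeal.toIdeal.primeCompl) :
    GrMod.LocMod (𝒮.deg D hD) (M := ℳ.mod.val.obj (op D)) y :=
  LocalizedModule.mk (ℳ.res hU hD hle q.1) ⟨𝒮.res hU hD hle (q.2 : 𝒮.presheaf.obj (op U)), h.notMem q.2.2⟩

/-- The map of local modules. -/
def MT (h : Over hU hD hle x y) :
    GrMod.LocMod (𝒮.deg U hU) (M := ℳ.mod.val.obj (op U)) x →+
      GrMod.LocMod (𝒮.deg D hD) (M := ℳ.mod.val.obj (op D)) y where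
  toFun q := q.liftOn (MFun ℳ h) (by
    rintro ⟨m, s⟩ ⟨m', s'⟩ ⟨w, hw⟩
    refine LocalizedModule.mk_eq.mpr ⟨⟨𝒮.res hU hD hle (w : 𝒮.presheaf.obj (op U)), h.notMem w.2⟩, ?_⟩
    have hw' := congrArg (ℳ.res hU hD hle) hw
    simp only [Submonoid.smul_def, res_smul'] at hw' ⊢
    exact hw')
  map_zero' := by
    rw [← LocalizedModule.zero_mk 1, LocalizedModule.liftOn_mk]
    change LocalizedModule.mk (ℳ.res hU hD hle 0) _ = 0
    rw [map_zero, LocalizedModule.zero_mk]
  map_add' q q' := by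
    induction q using LocalizedModule.induction_on with
    | h m s =>
      induction q' using LocalizedModule.induction_on with
      | h m' s' =>
        rw [LocalizedModule.mk_add_mk, LocalizedModule.liftOn_mk, LocalizedModule.liftOn_mk, LocalizedModule.liftOn_mk]
        change LocalizedModule.mk (ℳ.res hU hD hle (s' • m + s • m')) _ =
          LocalizedModule.mk (ℳ.res hU hD hle m) _ + LocalizedModule.mk (ℳ.res hU hD hle m') _
        rw [LocalizedModule.mk_add_mk]
        simp only [map_add, Submonoid.smul_def, res_smul']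
        congr 1
        exact Subtype.ext (by simp [map_mul])

theorem MT_mk (h : Over hU hD hle x y) (m : ℳ.mod.val.obj (op U))
    (s : x.asHomogeneousIdeal.toIdeal.primeCompl) :
    MT ℳ h (LocalizedModule.mk m s) =
      LocalizedModule.mk (ℳ.res hU hD hle m) ⟨𝒮.res hU hD hle (s : 𝒮.presheaf.obj (op U)), h.notMem s.2⟩ := rfl

theorem MT_smul (h : Over hU hD hle x y) (c : GrTwist.Loc (𝒮.deg U hU) x)
    (q : GrMod.LocMod (𝒮.deg U hU) (M := ℳ.mod.val.obj (op U)) x) :
    MT ℳ h (c • q) = T h c • MT ℳ h q := by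
  induction q using LocalizedModule.induction_on with
  | h m s =>
    induction c using Localization.induction_on with
    | H p =>
      obtain ⟨a, t⟩ := p
      rw [LocalizedModule.mk_smul_mk, MT_mk, MT_mk, T_mk, LocalizedModule.mk_smul_mk, res_smul']
      congr 1
      exact Subtype.ext (by simp [map_mul])

theorem MT_trans (h : Over hU hD hle x y) (h' : Over hD hD' hle' y z)
    (h'' : Over hU hD' (hle'.trans hle) x z)
    (q : GrMod.LocMod (𝒮.deg U hU) (M := ℳ.mod.val.obj (op U)) x) :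
    MT ℳ h' (MT ℳ h q) = MT ℳ h'' q := by
  induction q using LocalizedModule.induction_on with
  | h m s =>
    rw [MT_mk, MT_mk, MT_mk]
    exact congrArg₂ LocalizedModule.mk (res_res_apply ℳ m)
      (Subtype.ext (Groth.RelTw.res_res_apply _))

theorem locModMap_eq_MT (r : Γ(S, U)) (w : ProjectiveSpectrum (𝒮.deg (S.basicOpen r) (hU.basicOpen r)))
    (q : GrMod.LocMod (𝒮.deg U hU) (M := ℳ.mod.val.obj (op U))
      (ProjectiveSpectrum.comap (𝒮.res hU (hU.basicOpen r) (S.basicOpen_le r)) (𝒮.irrelevant_le_map U hU r) w)) :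
    GrMod.locModMap (𝒮.res hU (hU.basicOpen r) (S.basicOpen_le r)) (𝒮.irrelevant_le_map U hU r)
        (ℳ.res hU (hU.basicOpen r) (S.basicOpen_le r)) w q =
      MT ℳ (hU := hU) (hD := hU.basicOpen r) (hle := S.basicOpen_le r)
        (x := ProjectiveSpectrum.comap (𝒮.res hU (hU.basicOpen r) (S.basicOpen_le r)) (𝒮.irrelevant_le_map U hU r) w)
        (y := w) rfl q := by
  induction q using LocalizedModule.induction_on with
  | h m s => rfl

theorem res_decompose (a : ℳ.mod.val.obj (op U)) (i : ℕ) :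
    ℳ.res hU hD hle (DirectSum.decompose (ℳ.deg U hU) a i : ℳ.mod.val.obj (op U)) =
      DirectSum.decompose (ℳ.deg D hD) (ℳ.res hU hD hle a) i := by
  induction a using DirectSum.Decomposition.inductionOn (ℳ.deg U hU) with
  | zero => simp only [map_zero, DirectSum.decompose_zero, DirectSum.zero_apply, ZeroMemClass.coe_zero]
  | homogeneous m =>
    rename_i j
    by_cases h : j = i
    · subst h
      rw [DirectSum.decompose_of_mem_same _ m.2,
        DirectSum.decompose_of_mem_same _ (ℳ.res_mem hU hD hle _ _ m.2)]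
    · rw [DirectSum.decompose_of_mem_ne _ m.2 h, map_zero,
        DirectSum.decompose_of_mem_ne _ (ℳ.res_mem hU hD hle _ _ m.2) h]
  | add m m' hm hm' =>
    simp only [map_add, DirectSum.decompose_add, DirectSum.add_apply, AddMemClass.coe_add, hm, hm']

section basic

variable (hℳ : Coh.IsQCoh ((AMod.toOS 𝒮.toQCAlg).obj ℳ.mod)) (hr : ∃ r : Γ(S, U), S.basicOpen r = D)

include hℳ hr in
/-- The numerator of an element of the localized module, of the same degree. -/
theorem exists_num_mod : ∃ c : 𝒮.presheaf.obj (op U), c ∈ 𝒮.deg U hU 0 ∧ IsUnit (𝒮.res hU hD hle c) ∧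
    (∀ m, ℳ.res hU hD hle m = 0 → ∃ k : ℕ, c ^ k • m = 0) ∧
    (∀ b : ℳ.mod.val.obj (op D), ∃ (a : ℳ.mod.val.obj (op U)) (k : ℕ),
      ℳ.res hU hD hle a = 𝒮.res hU hD hle c ^ k • b) ∧
    (∀ (i : ℕ) (b : ℳ.mod.val.obj (op D)), b ∈ ℳ.deg D hD i →
      ∃ (a : ℳ.mod.val.obj (op U)) (k : ℕ), a ∈ ℳ.deg U hU i ∧
        ℳ.res hU hD hle a = 𝒮.res hU hD hle c ^ k • b) ∧
    (∀ (j : ℕ) (b : 𝒮.presheaf.obj (op D)), b ∈ 𝒮.deg D hD j →
      ∃ (a : 𝒮.presheaf.obj (op U)) (k : ℕ), a ∈ 𝒮.deg U hU j ∧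
        𝒮.res hU hD hle a = b * 𝒮.res hU hD hle c ^ k) ∧
    (∀ b : 𝒮.presheaf.obj (op D), ∃ (a : 𝒮.presheaf.obj (op U)) (k : ℕ),
        𝒮.res hU hD hle a = b * 𝒮.res hU hD hle c ^ k) := by
  classical
  obtain ⟨r, rfl⟩ := hr
  let c := (𝒮.str.app (op U)).hom r
  have hc0 : c ∈ 𝒮.deg U hU 0 := 𝒮.str_mem U hU r
  letI := (𝒮.res hU hD hle).toRingHom.toAlgebra
  haveI : IsLocalization.Away c (𝒮.presheaf.obj (op (S.basicOpen r))) :=
    Groth.RelTw.isLocalization_res rfl hD hle
  have hu : IsUnit (𝒮.res hU hD hle c) :=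
    IsLocalization.Away.algebraMap_isUnit (S := 𝒮.presheaf.obj (op (S.basicOpen r))) c
  have hs : ∀ b : 𝒮.presheaf.obj (op (S.basicOpen r)), ∃ (a : 𝒮.presheaf.obj (op U)) (k : ℕ),
      𝒮.res hU hD hle a = b * 𝒮.res hU hD hle c ^ k := fun b => by
    obtain ⟨k, a, hka⟩ := IsLocalization.Away.surj c b
    exact ⟨a, k, hka.symm⟩
  have hnat : (𝒮.str.app (op (S.basicOpen r))).hom (S.presheaf.map (homOfLE hle).op r) =
      𝒮.res hU hD hle c :=
    congr(($(𝒮.str.naturality (homOfLE hle).op)).hom r)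
  have hms : ∀ b : ℳ.mod.val.obj (op (S.basicOpen r)), ∃ (a : ℳ.mod.val.obj (op U)) (k : ℕ),
      ℳ.res hU hD hle a = 𝒮.res hU hD hle c ^ k • b := fun b => by
    obtain ⟨k, a, ha⟩ := Groth.Divisors.exists_pow_smul_eq_res hU hℳ r b
    refine ⟨a, k, Eq.trans ha ?_⟩
    change (𝒮.str.app (op (S.basicOpen r))).hom ((S.presheaf.map (homOfLE (S.basicOpen_le r)).op).hom r ^ k) • b = _
    rw [map_pow]
    exact congrArg (fun w => w ^ k • b) hnat
  refine ⟨c, hc0, hu, fun m hm => ?_, hms, fun i b hb => ?_, fun j b hb => ?_, hs⟩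
  · obtain ⟨k, hk⟩ := Groth.Divisors.exists_pow_smul_eq_zero hU hℳ r m hm
    refine ⟨k, Eq.trans ?_ hk⟩
    change _ = (𝒮.str.app (op U)).hom (r ^ k) • m
    rw [map_pow]
  · obtain ⟨a, k, ha⟩ := hms b
    refine ⟨DirectSum.decompose (ℳ.deg U hU) a i, k, SetLike.coe_mem _, ?_⟩
    have hcb : 𝒮.res hU hD hle c ^ k • b ∈ ℳ.deg (S.basicOpen r) hD i := by
      have := SetLike.GradedSMul.smul_mem (A := 𝒮.deg (S.basicOpen r) hD) (B := ℳ.deg (S.basicOpen r) hD)
        (SetLike.pow_mem_graded k ((𝒮.res hU hD hle).map_mem hc0)) hb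
      simpa using this
    rw [res_decompose, ha, DirectSum.decompose_of_mem_same _ hcb]
  · obtain ⟨a, k, ha⟩ := hs b
    refine ⟨DirectSum.decompose (𝒮.deg U hU) a j, k, SetLike.coe_mem _, ?_⟩
    have hbm : b * 𝒮.res hU hD hle c ^ k ∈ 𝒮.deg (S.basicOpen r) hD j := by
      have := SetLike.mul_mem_graded (A := 𝒮.deg (S.basicOpen r) hD) hb
        (SetLike.pow_mem_graded k ((𝒮.res hU hD hle).map_mem hc0))
      simpa using this
    rw [GradedRingHom.map_directSumDecompose, ha, DirectSum.decompose_of_mem_same _ hbm]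

include hℳ hr in
theorem MT_bijective (h : Over hU hD hle x y) : Function.Bijective (MT ℳ h) := by
  obtain ⟨c, -, hcu, hz, hms, -, -, hs⟩ := exists_num_mod (hU := hU) (hD := hD) (hle := hle) ℳ hℳ hr
  have hc : c ∉ x.asHomogeneousIdeal := fun hc =>
    y.isPrime.ne_top (Ideal.eq_top_of_isUnit_mem _ (h.le hc) hcu)
  have hlift : ∀ (v v₀ : _) (k : ℕ), v ∉ y.asHomogeneousIdeal →
      𝒮.res hU hD hle v₀ = v * 𝒮.res hU hD hle c ^ k → v₀ ∉ x.asHomogeneousIdeal := fun v v₀ k hv e hc' => by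
    have h1 : 𝒮.res hU hD hle v₀ ∈ y.asHomogeneousIdeal.toIdeal := h.le hc'
    rw [e] at h1
    exact hv ((y.isPrime.mem_or_mem h1).resolve_right fun h2 => h.notMem hc (y.isPrime.mem_of_pow_mem k h2))
  constructor
  · rw [injective_iff_map_eq_zero]
    intro q hq
    induction q using LocalizedModule.induction_on with
    | h m s =>
      rw [MT_mk] at hq
      obtain ⟨v, hv, hva⟩ := (mk_eq_zero_iff (𝒮.deg D hD)).1 hq
      obtain ⟨v₀, l, hv₀⟩ := hs v
      obtain ⟨k, hk⟩ := hz (v₀ • m) (by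
        rw [res_smul', hv₀, mul_comm v, mul_smul, hva, smul_zero])
      refine (mk_eq_zero_iff (𝒮.deg U hU)).2 ⟨c ^ k * v₀, fun hc' => ?_, by rw [mul_smul, hk]⟩
      rcases x.isPrime.mem_or_mem hc' with h3 | h3
      · exact hc (x.isPrime.mem_of_pow_mem k h3)
      · exact hlift v v₀ l hv hv₀ h3
  · intro q
    induction q using LocalizedModule.induction_on with
    | h b t =>
      obtain ⟨b₀, k, hb₀⟩ := hms b
      obtain ⟨t₀, l, ht₀⟩ := hs (t : 𝒮.presheaf.obj (op D))
      refine ⟨LocalizedModule.mk (c ^ l • b₀) ⟨t₀ * c ^ k, x.isPrime.mul_notMem (hlift _ t₀ l t.2 ht₀)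
        (fun h3 => hc (x.isPrime.mem_of_pow_mem k h3))⟩, ?_⟩
      rw [MT_mk]
      refine LocalizedModule.mk_eq.mpr ⟨1, ?_⟩
      simp only [one_smul, Submonoid.smul_def, res_smul', map_mul, map_pow, hb₀, ht₀, smul_smul]
      congr 1
      ring

end basic

end Groth.RelTilde
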