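import Groth.Agent.RelTilde.Basic

/-!
# `(ℳ(n))~`: functoriality and exactness
-/

universe u

open CategoryTheory CategoryTheory.Limits AlgebraicGeometry Opposite TopologicalSpace
open scoped HomogeneousIdeal

set_option backward.isDefEq.respectTransparency.types false

noncomputable section

namespace Groth.RelTilde

open Groth.PicAux (res res_res res_ext app_res)
open Groth.RelTw (exists_emb_eq image_le exists_pos_notMem)

section affine

variable {A σ : Type u} [CommRing A] [SetLike σ A] [AddSubgroupClass σ A] {𝒜 : ℕ → σ} [GradedRing 𝒜]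
  {M τ : Type u} [AddCommGroup M] [Module A M] [SetLike τ M] [AddSubgroupClass τ M]
  {ℳ : ℕ → τ} [DirectSum.Decomposition ℳ] [SetLike.GradedSMul 𝒜 ℳ]
  {N τ' : Type u} [AddCommGroup N] [Module A N] [SetLike τ' N] [AddSubgroupClass τ' N]
  {𝒩 : ℕ → τ'} [DirectSum.Decomposition 𝒩] [SetLike.GradedSMul 𝒜 𝒩]

theorem decompose_map (u : M →ₗ[A] N) (hu : ∀ (i : ℕ) (m : M), m ∈ ℳ i → u m ∈ 𝒩 i) (m : M) (i : ℕ) :
    u (DirectSum.decompose ℳ m i : M) = DirectSum.decompose 𝒩 (u m) i := by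
  induction m using DirectSum.Decomposition.inductionOn ℳ with
  | zero => simp only [map_zero, DirectSum.decompose_zero, DirectSum.zero_apply, ZeroMemClass.coe_zero]
  | homogeneous z =>
    rename_i j
    by_cases h : j = i
    · subst h
      rw [DirectSum.decompose_of_mem_same _ z.2, DirectSum.decompose_of_mem_same _ (hu _ _ z.2)]
    · rw [DirectSum.decompose_of_mem_ne _ z.2 h, map_zero, DirectSum.decompose_of_mem_ne _ (hu _ _ z.2) h]
  | add z z' hz hz' =>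
    simp only [map_add, DirectSum.decompose_add, DirectSum.add_apply, AddMemClass.coe_add, hz, hz']

/-- An annihilator outside a homogeneous prime may be taken homogeneous and of large degree. -/
theorem exists_homogeneous_smul_eq_zero (x : ProjectiveSpectrum 𝒜) {i : ℕ} {m : N} (hm : m ∈ 𝒩 i) (K : ℕ)
    (h : ∃ w : A, w ∉ x.asHomogeneousIdeal ∧ w • m = 0) :
    ∃ (e : ℕ) (w : A), K ≤ e ∧ w ∈ 𝒜 e ∧ w ∉ x.asHomogeneousIdeal ∧ w • m = 0 := by
  classical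
  obtain ⟨w, hw, hwm⟩ := h
  obtain ⟨k, hk⟩ : ∃ k, (DirectSum.decompose 𝒜 w k : A) ∉ x.asHomogeneousIdeal := by
    by_contra hc
    push Not at hc
    refine hw (?_ : w ∈ x.asHomogeneousIdeal.toIdeal)
    rw [← DirectSum.sum_support_decompose 𝒜 w]
    exact Ideal.sum_mem _ fun k _ => hc k
  obtain ⟨d, g, hd, hg, hgx⟩ := exists_pos_notMem 𝒜 x
  refine ⟨K * d + k, g ^ K * (DirectSum.decompose 𝒜 w k : A),
    (Nat.le_mul_of_pos_right K hd).trans (Nat.le_add_right _ _),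
    SetLike.mul_mem_graded (by simpa using SetLike.pow_mem_graded K hg) (SetLike.coe_mem _),
    x.asHomogeneousIdeal.toIdeal.primeCompl.mul_mem (pow_mem hgx K) hk, ?_⟩
  rw [mul_smul, ← decompose_smul_of_mem_right 𝒜 𝒩 hm, hwm]
  simp

theorem locMap_injOn (u : M →ₗ[A] N) (hu : ∀ (i : ℕ) (m : M), m ∈ ℳ i → u m ∈ 𝒩 i) (K : ℕ)
    (hinj : ∀ k, K ≤ k → ∀ m ∈ ℳ k, u m = 0 → m = 0) (n : ℤ) (x : ProjectiveSpectrum 𝒜)
    {q : GrMod.LocMod 𝒜 (M := M) x} (hq : q ∈ GrMod.tildeAt 𝒜 ℳ n x) (h0 : GrMod.locMap u x q = 0) : q = 0 := by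
  obtain ⟨i, j, m, s, hs, hm, -, -, rfl⟩ := exists_frac_of_mem_tildeAt 𝒜 ℳ n hq
  rw [GrMod.locMap_mk] at h0
  obtain ⟨e, w, hKe, hw, hwx, hwm⟩ := exists_homogeneous_smul_eq_zero x (hu i m hm) K ((mk_eq_zero_iff 𝒜).1 h0)
  refine (mk_eq_zero_iff 𝒜).2 ⟨w, hwx, ?_⟩
  exact hinj _ (hKe.trans (Nat.le_add_right e i)) _ (smul_mem 𝒜 ℳ hw hm rfl) (by rw [map_smul, hwm])

end affine

variable {S P : Scheme.{u}} {𝒮 : RelProj.QCGrAlg S} {p : P ⟶ S}
  {chart : ∀ (U : S.Opens) (hU : IsAffineOpen U), (((p ⁻¹ᵁ U : P.Opens) : Scheme.{u}) ≅ Proj (𝒮.deg U hU))}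

/-- The linear map of sections over `U`. -/
abbrev appU {ℳ 𝒩 : RelProj.GrModule 𝒮} (u : ℳ.mod ⟶ 𝒩.mod) (U : S.Opens) :
    ℳ.mod.val.obj (op U) →ₗ[𝒮.presheaf.obj (op U)] 𝒩.mod.val.obj (op U) :=
  (u.val.app (op U)).hom

theorem appU_res {ℳ 𝒩 : RelProj.GrModule 𝒮} (u : ℳ.mod ⟶ 𝒩.mod) {U D : S.Opens} (hU : IsAffineOpen U)
    (hD : IsAffineOpen D) (hle : D ≤ U) (m : ℳ.mod.val.obj (op U)) :
    appU u D (ℳ.res hU hD hle m) = 𝒩.res hU hD hle (appU u U m) :=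
  PresheafOfModules.naturality_apply u.val (homOfLE hle).op m

variable {ℳ 𝒩 : RelProj.GrModule 𝒮} {u : ℳ.mod ⟶ 𝒩.mod} (hu : RelProj.IsGrModHom u) {n : ℤ}
  {F G : P.Modules} {lam : ∀ (U : S.Opens) (hU : IsAffineOpen U), F ⟶ locT p chart ℳ n U hU}
  {lam' : ∀ (U : S.Opens) (hU : IsAffineOpen U), G ⟶ locT p chart 𝒩 n U hU}

/-- The map to the charts induced by a graded homomorphism. -/
def mapPsi (hu : RelProj.IsGrModHom u) (lam : ∀ (U : S.Opens) (hU : IsAffineOpen U), F ⟶ locT p chart ℳ n U hU)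
    (U : S.Opens) (hU : IsAffineOpen U) : F ⟶ locT p chart 𝒩 n U hU :=
  lam U hU ≫ (Scheme.Modules.pushforward (RelProj.emb p chart U hU)).map
    (GrMod.map (𝒮.deg U hU) (appU u U) (hu U hU) n)

theorem pv_mapPsi (U : S.Opens) (hU : IsAffineOpen U) {W : P.Opens} (s : Γ(F, W))
    (y : ProjectiveSpectrum (𝒮.deg U hU)) (hy : RelProj.emb p chart U hU y ∈ W) :
    pv (mapPsi hu lam) U hU s y hy = GrMod.locMap (appU u U) y (pv lam U hU s y hy) := rfl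

theorem compatible_mapPsi (hc : Compatible lam) : Compatible (mapPsi hu lam) := by
  intro U hU r W s y hy hy'
  rw [pv_mapPsi, pv_mapPsi, hc U hU r W s y hy hy']
  generalize pv lam U hU s _ hy' = q
  induction q using LocalizedModule.induction_on with
  | h m t =>
    rw [GrMod.locModMap_mk, GrMod.locMap_mk, GrMod.locMap_mk, GrMod.locModMap_mk, appU_res]

variable {ut : F ⟶ G} (hut : ∀ (U : S.Opens) (hU : IsAffineOpen U), ut ≫ lam' U hU = mapPsi hu lam U hU)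

include hut in
theorem pv_map_app (U : S.Opens) (hU : IsAffineOpen U) {W : P.Opens} (s : Γ(F, W))
    (y : ProjectiveSpectrum (𝒮.deg U hU)) (hy : RelProj.emb p chart U hU y ∈ W) :
    pv lam' U hU (ut.app W s) y hy = GrMod.locMap (appU u U) y (pv lam U hU s y hy) :=
  (congrArg (fun q => tv (U := RelProj.emb p chart U hU ⁻¹ᵁ W) q y hy) congr(($(hut U hU)).app W s)).trans
    (pv_mapPsi hu U hU s y hy)

variable (hF : RelProj.IsRelTilde 𝒮 p chart ℳ n F lam) (hG : RelProj.IsRelTilde 𝒮 p chart 𝒩 n G lam')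

include hut hF in
theorem mono_map (hinj : ∃ n₀ : ℕ, ∀ (U : S.Opens) (hU : IsAffineOpen U) (k : ℕ), n₀ ≤ k →
    ∀ m ∈ ℳ.deg U hU k, appU u U m = 0 → m = 0) : Mono ut := by
  obtain ⟨K, hK⟩ := hinj
  refine (Groth.CohTwo.mono_iff_app_injective ut).mpr fun W => ?_
  rw [injective_iff_map_eq_zero]
  intro s hs
  refine sec_ext_all hF fun U hU y hy => ?_
  rw [pv_zero]
  refine locMap_injOn (appU u U) (hu U hU) K (hK U hU) n y (pv_mem lam U hU s y hy) ?_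
  rw [← pv_map_app hu hut, hs, pv_zero]

include hF hG in
/-- A chart-local preimage gives a local preimage. -/
theorem exists_local_preimage {V : P.Opens} (t : Γ(G, V)) (U : S.Opens) (hU : IsAffineOpen U)
    (hut : ∀ (U : S.Opens) (hU : IsAffineOpen U), ut ≫ lam' U hU = mapPsi hu lam U hU)
    (y : ProjectiveSpectrum (𝒮.deg U hU)) (hy : RelProj.emb p chart U hU y ∈ V)
    (h : ∀ (i j : ℕ) (m : 𝒩.mod.val.obj (op U)) (s : 𝒮.presheaf.obj (op U))
      (O : (Proj (𝒮.deg U hU)).Opens) (_ : O ≤ RelProj.emb p chart U hU ⁻¹ᵁ V) (_ : y ∈ O)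
      (hsO : ∀ z : ProjectiveSpectrum (𝒮.deg U hU), z ∈ O → s ∉ z.asHomogeneousIdeal),
      m ∈ 𝒩.deg U hU i → s ∈ 𝒮.deg U hU j → ((i : ℤ) = j + n ∨ m = 0) →
      (∀ (z : ProjectiveSpectrum (𝒮.deg U hU)) (hz : z ∈ O) (hzV : RelProj.emb p chart U hU z ∈ V),
        pv lam' U hU t z hzV = LocalizedModule.mk m ⟨s, hsO z hz⟩) →
      ∃ (e : ℕ) (w : 𝒮.presheaf.obj (op U)) (m₀ : ℳ.mod.val.obj (op U)),
        w ∈ 𝒮.deg U hU e ∧ w ∉ y.asHomogeneousIdeal ∧ m₀ ∈ ℳ.deg U hU (e + i) ∧ appU u U m₀ = w • m) :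
    ∃ (W : P.Opens) (hW : W ≤ V), RelProj.emb p chart U hU y ∈ W ∧
      ∃ s : Γ(F, W), ut.app W s = res G hW t := by
  obtain ⟨O₁, hyO, ι, i, j, ⟨m, hm⟩, ⟨s, hs⟩, hnin, hdeg, hval⟩ :=
    ((lam' U hU).app V t : GrMod.sect (𝒮.deg U hU) (𝒩.deg U hU) n (op (RelProj.emb p chart U hU ⁻¹ᵁ V))).2 ⟨y, hy⟩
  replace hdeg : (i : ℤ) = j + n ∨ m = 0 := hdeg
  rcases hdeg with hdeg | hdeg
  · obtain ⟨e, w, m₀, hw, hwy, hm₀, hum⟩ := h i j m s O₁ ι.le hyO (fun z hz => hnin ⟨z, hz⟩) hm hs (Or.inl hdeg)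
      (fun z hz hzV => hval ⟨z, hz⟩)
    let O : (Proj (𝒮.deg U hU)).Opens := O₁ ⊓ Proj.basicOpen (𝒮.deg U hU) w
    have hOs : ∀ z : ProjectiveSpectrum (𝒮.deg U hU), z ∈ O → w * s ∉ z.asHomogeneousIdeal := fun z hz =>
      z.asHomogeneousIdeal.toIdeal.primeCompl.mul_mem hz.2 (hnin ⟨z, hz.1⟩)
    obtain ⟨q, hq⟩ := exists_sec hF U hU O (fracSect (𝒮.deg U hU) (ℳ.deg U hU) n O m₀ hm₀ (w * s)
      (SetLike.mul_mem_graded hw hs) (fun z => hOs z.1 z.2) (Or.inl (by push_cast; omega)))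
    have hWV : RelProj.emb p chart U hU ''ᵁ O ≤ V := by
      rintro _ ⟨z, hz, rfl⟩
      exact ι.le hz.1
    refine ⟨_, hWV, ⟨y, ⟨hyO, hwy⟩, rfl⟩, q, ?_⟩
    refine sec_ext hG hU (image_le U hU O) fun z hz => ?_
    have hzO : z ∈ O := ((RelProj.emb p chart U hU).preimage_image_eq O).le hz
    rw [pv_map_app hu hut, pv_res, hq z hz hzO]
    refine Eq.trans ?_ (hval ⟨z, hzO.1⟩).symm
    refine (GrMod.locMap_mk (appU u U) z m₀ _).trans ?_
    rw [hum]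
    refine LocalizedModule.mk_eq.mpr ⟨1, ?_⟩
    simp only [one_smul, Submonoid.smul_def, smul_smul]
    rw [mul_comm w s]
  · have hWV : RelProj.emb p chart U hU ''ᵁ O₁ ≤ V := by
      rintro _ ⟨z, hz, rfl⟩
      exact ι.le hz
    refine ⟨_, hWV, ⟨y, hyO, rfl⟩, 0, ?_⟩
    refine sec_ext hG hU (image_le U hU O₁) fun z hz => ?_
    have hzO : z ∈ O₁ := ((RelProj.emb p chart U hU).preimage_image_eq O₁).le hz
    rw [map_zero, pv_zero, pv_res]
    refine Eq.trans ?_ (hval ⟨z, hzO⟩).symm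
    change _ = LocalizedModule.mk m _
    simp only [hdeg, LocalizedModule.zero_mk]

include hut hF hG in
theorem epi_map (hsurj : ∃ n₀ : ℕ, ∀ (U : S.Opens) (hU : IsAffineOpen U) (k : ℕ), n₀ ≤ k →
    ∀ m' ∈ 𝒩.deg U hU k, ∃ m ∈ ℳ.deg U hU k, appU u U m = m') : Epi ut := by
  obtain ⟨K, hK⟩ := hsurj
  refine epi_of_local ut fun V t x hx => ?_
  obtain ⟨U, hU, hxU, -⟩ := exists_isAffineOpen_mem_and_subset (x := p x) (U := (⊤ : S.Opens)) trivial
  obtain ⟨y, rfl⟩ := exists_emb_eq (chart := chart) U hU hxU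
  refine exists_local_preimage hu hF hG t U hU hut y hx fun i j m s O _ _ _ hm _ _ _ => ?_
  obtain ⟨d, g, hd, hg, hgy⟩ := exists_pos_notMem (𝒮.deg U hU) y
  have hgK : g ^ K ∈ 𝒮.deg U hU (K * d) := by simpa using SetLike.pow_mem_graded K hg
  obtain ⟨m₀, hm₀, hum⟩ := hK U hU (K * d + i) ((Nat.le_mul_of_pos_right K hd).trans (Nat.le_add_right _ _))
    (g ^ K • m) (smul_mem _ _ hgK hm rfl)
  exact ⟨_, g ^ K, m₀, hgK, fun hh => hgy (y.isPrime.mem_of_pow_mem K hh), hm₀, hum⟩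

section exact

variable {𝒪 : RelProj.GrModule 𝒮} {v : 𝒩.mod ⟶ 𝒪.mod} (hv : RelProj.IsGrModHom v) {H : P.Modules}
  {lam'' : ∀ (U : S.Opens) (hU : IsAffineOpen U), H ⟶ locT p chart 𝒪 n U hU} {vt : G ⟶ H}
  (hvt : ∀ (U : S.Opens) (hU : IsAffineOpen U), vt ≫ lam'' U hU = mapPsi hv lam' U hU)

include hut hvt hF hG in
theorem exact_map (hex : ∀ (U : S.Opens) (_ : IsAffineOpen U), Function.Exact (appU u U) (appU v U))
    (w : ut ≫ vt = 0) : (ShortComplex.mk ut vt w).Exact := by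
  refine exact_of_local _ fun V t ht x hx => ?_
  obtain ⟨U, hU, hxU, -⟩ := exists_isAffineOpen_mem_and_subset (x := p x) (U := (⊤ : S.Opens)) trivial
  obtain ⟨y, rfl⟩ := exists_emb_eq (chart := chart) U hU hxU
  refine exists_local_preimage hu hF hG t U hU hut y hx fun i j m s O hO hyO hsO hm hs _ hval => ?_
  have h1 : GrMod.locMap (appU v U) y (pv lam' U hU t y hx) = 0 := by
    rw [← pv_map_app hv hvt, ht, pv_zero]
  rw [hval y hyO hx, GrMod.locMap_mk] at h1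
  obtain ⟨e, c, -, hc, hcy, hcm⟩ :=
    exists_homogeneous_smul_eq_zero y (hv U hU i m hm) 0 ((mk_eq_zero_iff (𝒮.deg U hU)).1 h1)
  obtain ⟨m₀, hm₀⟩ := (hex U hU (c • m)).1 ((map_smul _ _ _).trans hcm)
  refine ⟨e, c, DirectSum.decompose (ℳ.deg U hU) m₀ (e + i), hc, hcy, SetLike.coe_mem _, ?_⟩
  rw [decompose_map (appU u U) (hu U hU), hm₀,
    DirectSum.decompose_of_mem_same _ (smul_mem _ _ hc hm rfl)]

end exact

include hF in
theorem isZero_of_isTN (hTN : ℳ.IsTN) : IsZero F := by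
  obtain ⟨K, hK⟩ := hTN
  refine isZero_of_forall F fun W s => sec_ext_all hF fun U hU y hy => ?_
  rw [pv_zero]
  obtain ⟨i, j, m, t, ht, hm, -, -, hq⟩ :=
    exists_frac_of_mem_tildeAt (𝒮.deg U hU) (ℳ.deg U hU) n (pv_mem lam U hU s y hy)
  rw [hq]
  obtain ⟨d, g, hd, hg, hgy⟩ := exists_pos_notMem (𝒮.deg U hU) y
  refine (mk_eq_zero_iff (𝒮.deg U hU)).2 ⟨g ^ K, fun hh => hgy (y.isPrime.mem_of_pow_mem K hh), ?_⟩
  exact hK U hU _ ((Nat.le_mul_of_pos_right K hd).trans (Nat.le_add_right _ i)) _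
    (smul_mem _ _ (by simpa using SetLike.pow_mem_graded K hg) hm rfl)

end Groth.RelTilde
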