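import Groth.Prelude.Def_RelProj3
import Groth.Agent.RelTilde.FiniteType
import Groth.Agent.RelTilde.Maps

/-!
# `M(n)~` on `Proj`: exactness on standard opens, restriction of scalars
-/

universe u

open CategoryTheory CategoryTheory.Limits AlgebraicGeometry Opposite TopologicalSpace DirectSum
open scoped HomogeneousIdeal

set_option backward.isDefEq.respectTransparency.types false

noncomputable section

namespace Groth.RelTilde

open Groth.RelTw (exists_pos_notMem)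

variable {A σ : Type u} [CommRing A] [SetLike σ A] [AddSubgroupClass σ A] {𝒜 : ℕ → σ} [GradedRing 𝒜]
  {M τ : Type u} [AddCommGroup M] [Module A M] [SetLike τ M] [AddSubgroupClass τ M]
  {ℳ : ℕ → τ} [DirectSum.Decomposition ℳ] [SetLike.GradedSMul 𝒜 ℳ]
  {d : ℕ} {f : A}

section exact

variable {N τ' : Type u} [AddCommGroup N] [Module A N] [SetLike τ' N] [AddSubgroupClass τ' N]
  {𝒩 : ℕ → τ'} [DirectSum.Decomposition 𝒩] [SetLike.GradedSMul 𝒜 𝒩]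

theorem tv_map (u : M →ₗ[A] N) (hu : ∀ (i : ℕ) (m : M), m ∈ ℳ i → u m ∈ 𝒩 i) {n : ℤ} {U : (Proj 𝒜).Opens}
    (s : Γ(GrMod.tilde 𝒜 ℳ n, U)) (x : ProjectiveSpectrum 𝒜) (hx : x ∈ U) :
    tv ((GrMod.map 𝒜 u hu n).app U s) x hx = GrMod.locMap u x (tv s x hx) := rfl

theorem exact_map_app {O τ'' : Type u} [AddCommGroup O] [Module A O] [SetLike τ'' O] [AddSubgroupClass τ'' O]
    {𝒪 : ℕ → τ''} [DirectSum.Decomposition 𝒪] [SetLike.GradedSMul 𝒜 𝒪]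
    (u : M →ₗ[A] N) (hu : ∀ (i : ℕ) (m : M), m ∈ ℳ i → u m ∈ 𝒩 i)
    (v : N →ₗ[A] O) (hv : ∀ (i : ℕ) (m : N), m ∈ 𝒩 i → v m ∈ 𝒪 i)
    (hex : Function.Exact u v) (n : ℤ) (hd : 0 < d) (hf : f ∈ 𝒜 d) :
    Function.Exact ((GrMod.map 𝒜 u hu n).app (Proj.basicOpen 𝒜 f))
      ((GrMod.map 𝒜 v hv n).app (Proj.basicOpen 𝒜 f)) := by
  have hzero : ∀ x : M, v (u x) = 0 := fun x => (hex _).2 ⟨x, rfl⟩
  intro t
  constructor
  · intro ht
    obtain ⟨k, i, m, hi, hm⟩ := exists_frac 𝒜 𝒩 n hd hf t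
    obtain ⟨N₀, hN₀⟩ := exists_pow_smul_eq_zero 𝒜 𝒪 hd hf (hv i _ m.2) fun x hx => by
      have h1 := congrArg (fun s => tv (U := Proj.basicOpen 𝒜 f) s x hx) ht
      rw [tv_map, tv_zero, show tv t x hx = _ from hm ⟨x, hx⟩, GrMod.locMap_mk] at h1
      exact (mk_eq_zero_iff 𝒜).1 h1
    obtain ⟨m₀, hm₀⟩ := (hex (f ^ N₀ • (m : N))).1 (by rw [map_smul, hN₀])
    refine ⟨fracSect 𝒜 ℳ n (Proj.basicOpen 𝒜 f) (i := N₀ * d + i) (j := (N₀ + k) * d)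
      (decompose ℳ m₀ (N₀ * d + i) : M) (SetLike.coe_mem _) (f ^ (N₀ + k))
      (by simpa using SetLike.pow_mem_graded (N₀ + k) hf) (fun x => mem_basicOpen_notMem_pow x.2 _)
      (Or.inl (by push_cast; linarith)), tv_ext fun x hx => ?_⟩
    rw [tv_map]
    refine Eq.trans (GrMod.locMap_mk u x _ _) ?_
    rw [decompose_map u hu, hm₀, decompose_of_mem_same _
      (smul_mem 𝒜 𝒩 (by simpa using SetLike.pow_mem_graded N₀ hf) m.2 rfl)]
    refine Eq.trans ?_ (hm ⟨x, hx⟩).symm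
    refine LocalizedModule.mk_eq.mpr ⟨1, ?_⟩
    simp only [one_smul, Submonoid.smul_def, smul_smul, ← pow_add, add_comm k N₀]
  · rintro ⟨s, rfl⟩
    refine tv_ext fun x hx => ?_
    rw [tv_map, tv_map, tv_zero]
    generalize tv s x hx = q
    induction q using LocalizedModule.induction_on with
    | h m₀ s₀ => rw [GrMod.locMap_mk, GrMod.locMap_mk, hzero, LocalizedModule.zero_mk]

end exact

section comap

variable {B σ' : Type u} [CommRing B] [SetLike σ' B] [AddSubgroupClass σ' B] {ℬ : ℕ → σ'} [GradedRing ℬ]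
  (ψ : 𝒜 →+*ᵍ ℬ) (hψ : ℬ₊ ≤ (𝒜₊).map ψ)
  {N τ' : Type u} [AddCommGroup N] [Module B N] [SetLike τ' N] [AddSubgroupClass τ' N]
  {𝒩 : ℕ → τ'} [DirectSum.Decomposition 𝒩] [SetLike.GradedSMul ℬ 𝒩]
  (v : M →ₛₗ[ψ.toRingHom] N) (hv : ∀ (i : ℕ) (m : M), m ∈ ℳ i → v m ∈ 𝒩 i)

include hv in
theorem decompose_semilinear (m : M) (i : ℕ) :
    v (decompose ℳ m i : M) = decompose 𝒩 (v m) i := by
  induction m using DirectSum.Decomposition.inductionOn ℳ with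
  | zero => simp only [map_zero, DirectSum.decompose_zero, DirectSum.zero_apply, ZeroMemClass.coe_zero]
  | homogeneous z =>
    rename_i j
    by_cases h : j = i
    · subst h
      rw [decompose_of_mem_same _ z.2, decompose_of_mem_same _ (hv _ _ z.2)]
    · rw [decompose_of_mem_ne _ z.2 h, map_zero, decompose_of_mem_ne _ (hv _ _ z.2) h]
  | add z z' hz hz' =>
    simp only [map_add, DirectSum.decompose_add, DirectSum.add_apply, AddMemClass.coe_add, hz, hz']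

variable (hbij : Function.Bijective v) (n : ℤ)

theorem tv_comap (U : (Proj 𝒜).Opens) (s : Γ(GrMod.tilde 𝒜 ℳ n, U)) (y : ProjectiveSpectrum ℬ)
    (hy : y ∈ Proj.map ψ hψ ⁻¹ᵁ U) :
    tv (U := Proj.map ψ hψ ⁻¹ᵁ U) ((GrMod.comap ψ hψ v hv n).app U s) y hy =
      GrMod.locModMap ψ hψ v y (tv s (ProjectiveSpectrum.comap ψ hψ y) hy) := rfl

include hv hbij in
theorem comap_injective_aux {d : ℕ} (hd : 0 < d) {f : A} (hf : f ∈ 𝒜 d)
    (t : Γ(GrMod.tilde 𝒜 ℳ n, Proj.basicOpen 𝒜 f))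
    (ht : ∀ (y : ProjectiveSpectrum ℬ) (hy : y ∈ Proj.map ψ hψ ⁻¹ᵁ Proj.basicOpen 𝒜 f),
      GrMod.locModMap ψ hψ v y (tv t (ProjectiveSpectrum.comap ψ hψ y) hy) = 0) : t = 0 := by
  obtain ⟨k, i, m, hi, hm⟩ := exists_frac 𝒜 ℳ n hd hf t
  obtain ⟨N₀, hN₀⟩ := exists_pow_smul_eq_zero ℬ 𝒩 hd (ψ.map_mem hf) (hv i _ m.2) fun y hy => by
    have hy' : y ∈ Proj.map ψ hψ ⁻¹ᵁ Proj.basicOpen 𝒜 f := hy
    have h1 := ht y hy'
    rw [show tv t (ProjectiveSpectrum.comap ψ hψ y) hy' = _ from hm ⟨_, hy'⟩] at h1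
    replace h1 := (GrMod.locModMap_mk ψ hψ v y _ _).symm.trans h1
    exact (mk_eq_zero_iff ℬ).1 h1
  have h0 : f ^ N₀ • (m : M) = 0 := hbij.1 (by
    rw [LinearMap.map_smulₛₗ, map_zero, map_pow]; exact hN₀)
  refine tv_ext fun x hx => ?_
  rw [tv_zero]
  exact (hm ⟨x, hx⟩).trans ((mk_eq_zero_iff 𝒜).2 ⟨f ^ N₀, mem_basicOpen_notMem_pow hx N₀, h0⟩)

include hbij in
theorem exists_comap_basic {d : ℕ} (hd : 0 < d) {f : A} (hf : f ∈ 𝒜 d)
    (q : Γ(GrMod.tilde ℬ 𝒩 n, Proj.map ψ hψ ⁻¹ᵁ Proj.basicOpen 𝒜 f)) :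
    ∃ t : Γ(GrMod.tilde 𝒜 ℳ n, Proj.basicOpen 𝒜 f),
      (GrMod.comap ψ hψ v hv n).app (Proj.basicOpen 𝒜 f) t = q := by
  obtain ⟨k, i, m', hi, hm⟩ := exists_frac ℬ 𝒩 n hd (ψ.map_mem hf)
    (Groth.QCohMod.res (GrMod.tilde ℬ 𝒩 n)
      (show Proj.basicOpen ℬ (ψ f) ≤ Proj.map ψ hψ ⁻¹ᵁ Proj.basicOpen 𝒜 f from fun y hy => hy) q)
  obtain ⟨m₀, hm₀⟩ := hbij.2 (m' : N)
  refine ⟨fracSect 𝒜 ℳ n (Proj.basicOpen 𝒜 f) (i := i) (j := k * d) (decompose ℳ m₀ i : M)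
    (SetLike.coe_mem _) (f ^ k) (by simpa using SetLike.pow_mem_graded k hf)
    (fun x => mem_basicOpen_notMem_pow x.2 k) (Or.inl (by rw [hi]; push_cast; ring)),
    tv_ext (U := Proj.map ψ hψ ⁻¹ᵁ Proj.basicOpen 𝒜 f) fun y hy => ?_⟩
  rw [tv_comap]
  refine Eq.trans (GrMod.locModMap_mk ψ hψ v y _ _) ?_
  refine Eq.trans ?_ (hm ⟨y, hy⟩).symm
  rw [decompose_semilinear ψ v hv, hm₀, decompose_of_mem_same _ m'.2]
  refine LocalizedModule.mk_eq.mpr ⟨1, ?_⟩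
  simp only [one_smul, Submonoid.smul_def, map_pow]
  rfl

include hbij in
theorem isIso_comap : IsIso (GrMod.comap ψ hψ v hv n) := by
  classical
  have hinj : ∀ U : (Proj 𝒜).Opens, Function.Injective ((GrMod.comap ψ hψ v hv n).app U) := fun U => by
    rw [injective_iff_map_eq_zero]
    intro s hs
    refine tv_ext fun x hx => ?_
    obtain ⟨_, ⟨g, rfl⟩, hxg, hgU⟩ :=
      (ProjectiveSpectrum.isTopologicalBasis_basic_opens 𝒜).exists_subset_of_mem_open hx U.2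
    obtain ⟨d, f, hd, hf, hfx⟩ := exists_pos_notMem 𝒜 x
    obtain ⟨k, hk⟩ : ∃ k, (decompose 𝒜 g k : A) ∉ x.asHomogeneousIdeal := by
      by_contra hc
      push Not at hc
      refine hxg (?_ : g ∈ x.asHomogeneousIdeal.toIdeal)
      rw [← sum_support_decompose 𝒜 g]
      exact Ideal.sum_mem _ fun k _ => hc k
    have hle : Proj.basicOpen 𝒜 (f * (decompose 𝒜 g k : A)) ≤ U := fun z hz => hgU fun hgz => hz
      (z.asHomogeneousIdeal.toIdeal.mul_mem_left _ (z.asHomogeneousIdeal.isHomogeneous k hgz))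
    have h0 : Groth.QCohMod.res (GrMod.tilde 𝒜 ℳ n) hle s = 0 :=
      comap_injective_aux ψ hψ v hv hbij n (Nat.add_pos_left hd k) (SetLike.mul_mem_graded hf (SetLike.coe_mem _)) _
        fun y hy => by
          rw [tv_res]
          exact congrArg (fun r => tv (U := Proj.map ψ hψ ⁻¹ᵁ U) r y (hle hy)) hs
    have hxm : x ∈ Proj.basicOpen 𝒜 (f * (decompose 𝒜 g k : A)) :=
      x.asHomogeneousIdeal.toIdeal.primeCompl.mul_mem hfx hk
    have h1 := congrArg (fun r => tv (U := Proj.basicOpen 𝒜 (f * (decompose 𝒜 g k : A))) r x hxm) h0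
    exact h1
  refine Scheme.Modules.Hom.isIso_iff_isIso_app.2 fun U => ?_
  rw [ConcreteCategory.isIso_iff_bijective]
  refine ⟨hinj U, fun q => ?_⟩
  have hbasis : ∀ x : U, ∃ (d : ℕ) (f : A), 0 < d ∧ f ∈ 𝒜 d ∧ x.1 ∈ Proj.basicOpen 𝒜 f ∧
      Proj.basicOpen 𝒜 f ≤ U := fun ⟨x, hx⟩ => by
    obtain ⟨_, ⟨g, rfl⟩, hxg, hgU⟩ :=
      (ProjectiveSpectrum.isTopologicalBasis_basic_opens 𝒜).exists_subset_of_mem_open hx U.2
    obtain ⟨d, f, hd, hf, hfx⟩ := exists_pos_notMem 𝒜 x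
    obtain ⟨k, hk⟩ : ∃ k, (decompose 𝒜 g k : A) ∉ x.asHomogeneousIdeal := by
      by_contra hc
      push Not at hc
      refine hxg (?_ : g ∈ x.asHomogeneousIdeal.toIdeal)
      rw [← sum_support_decompose 𝒜 g]
      exact Ideal.sum_mem _ fun k _ => hc k
    exact ⟨d + k, f * (decompose 𝒜 g k : A), Nat.add_pos_left hd k,
      SetLike.mul_mem_graded hf (SetLike.coe_mem _),
      x.asHomogeneousIdeal.toIdeal.primeCompl.mul_mem hfx hk, fun z hz => hgU fun hgz => hz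
        (z.asHomogeneousIdeal.toIdeal.mul_mem_left _ (z.asHomogeneousIdeal.isHomogeneous k hgz))⟩
  choose d f hd hf hxf hfU using hbasis
  choose t ht using fun x => exists_comap_basic ψ hψ v hv hbij n (hd x) (hf x)
    (Groth.QCohMod.res (GrMod.tilde ℬ 𝒩 n) ((Proj.map ψ hψ).preimage_mono (hfU x)) q)
  obtain ⟨T, hT, -⟩ := Groth.PicAux.res_glue (M := GrMod.tilde 𝒜 ℳ n) (fun x => Proj.basicOpen 𝒜 (f x)) hfU
    (fun x hx => Opens.mem_iSup.2 ⟨⟨x, hx⟩, hxf _⟩) t (fun a b => hinj _ (by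
      rw [Groth.PicAux.app_res, Groth.PicAux.app_res, ht, ht]
      rfl))
  refine ⟨T, Groth.PicAux.res_ext (M := (Scheme.Modules.pushforward (Proj.map ψ hψ)).obj (GrMod.tilde ℬ 𝒩 n))
    (fun x => Proj.basicOpen 𝒜 (f x)) hfU (fun x hx => Opens.mem_iSup.2 ⟨⟨x, hx⟩, hxf _⟩) fun x => ?_⟩
  rw [← Groth.PicAux.app_res, hT, ht]
  rfl

end comap

end Groth.RelTilde
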