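import Groth.Agent.RelTilde.Trans
import Groth.Agent.RelTilde.FiniteType
import Groth.Agent.RelTwist.Exist

/-!
# Existence of `(ℳ(n))~` on a relative Proj
-/

universe u

open CategoryTheory CategoryTheory.Limits AlgebraicGeometry Opposite TopologicalSpace
open scoped HomogeneousIdeal

set_option backward.isDefEq.respectTransparency.types false

namespace Groth.RelTilde

noncomputable section

open Groth.QCohMod (res res_smul SubMod)
open Groth.RelTw (Over exists_common exists_emb_eq over_of_emb_eq emb_eq_of_over p_emb_mem piMod piSec piProj basic_of_le exists_num app_val_of_eq)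

variable {S P : Scheme.{u}} (𝒮 : RelProj.QCGrAlg S) (p : P ⟶ S)
  (chart : ∀ (U : S.Opens) (hU : IsAffineOpen U), (((p ⁻¹ᵁ U : P.Opens) : Scheme.{u}) ≅ Proj (𝒮.deg U hU)))
  (ℳ : RelProj.GrModule 𝒮) (n : ℤ)

/-- The modules of the charts, pushed forward. -/
noncomputable def locM (i : {U : S.Opens // IsAffineOpen U}) : P.Modules :=
  (Scheme.Modules.pushforward (RelProj.emb p chart i.1 i.2)).obj (GrMod.tilde (𝒮.deg i.1 i.2) (ℳ.deg i.1 i.2) n)

variable {𝒮 p chart ℳ n}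

/-- The components of a family. -/
noncomputable def comp {W : P.Opens} (s : Γ(piMod (locM 𝒮 p chart ℳ n), W)) (U : S.Opens) (hU : IsAffineOpen U) :
    Γ(GrMod.tilde (𝒮.deg U hU) (ℳ.deg U hU) n, RelProj.emb p chart U hU ⁻¹ᵁ W) :=
  piSec _ s ⟨U, hU⟩

/-- The value of a component. -/
noncomputable def cval {W : P.Opens} (s : Γ(piMod (locM 𝒮 p chart ℳ n), W)) (U : S.Opens) (hU : IsAffineOpen U)
    (y : ProjectiveSpectrum (𝒮.deg U hU)) (hy : RelProj.emb p chart U hU y ∈ W) : GrMod.LocMod (𝒮.deg U hU) (M := ℳ.mod.val.obj (op U)) y :=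
  tv (comp s U hU) y hy

theorem cval_add {W : P.Opens} (s t : Γ(piMod (locM 𝒮 p chart ℳ n), W)) (U : S.Opens) (hU : IsAffineOpen U)
    (y : ProjectiveSpectrum (𝒮.deg U hU)) (hy : RelProj.emb p chart U hU y ∈ W) :
    cval (s + t) U hU y hy = cval s U hU y hy + cval t U hU y hy := rfl

theorem cval_zero {W : P.Opens} (U : S.Opens) (hU : IsAffineOpen U)
    (y : ProjectiveSpectrum (𝒮.deg U hU)) (hy : RelProj.emb p chart U hU y ∈ W) :
    cval (0 : Γ(piMod (locM 𝒮 p chart ℳ n), W)) U hU y hy = 0 := rfl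

theorem cval_smul {W : P.Opens} (r : Γ(P, W)) (s : Γ(piMod (locM 𝒮 p chart ℳ n), W)) (U : S.Opens)
    (hU : IsAffineOpen U) (y : ProjectiveSpectrum (𝒮.deg U hU)) (hy : RelProj.emb p chart U hU y ∈ W) :
    cval (r • s) U hU y hy =
      (((RelProj.emb p chart U hU).app W r).1 ⟨y, hy⟩).val • cval s U hU y hy :=
  tv_smul (U := RelProj.emb p chart U hU ⁻¹ᵁ W) ((RelProj.emb p chart U hU).app W r) (comp s U hU) y hy

theorem cval_res {W W' : P.Opens} (h : W' ≤ W) (s : Γ(piMod (locM 𝒮 p chart ℳ n), W)) (U : S.Opens)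
    (hU : IsAffineOpen U) (y : ProjectiveSpectrum (𝒮.deg U hU)) (hy : RelProj.emb p chart U hU y ∈ W') :
    cval (res _ h s) U hU y hy = cval s U hU y (h hy) := rfl


/-- The compatibility of a family along basic opens. -/
def Compat {W : P.Opens} (s : Γ(piMod (locM 𝒮 p chart ℳ n), W)) : Prop :=
  ∀ (U : S.Opens) (hU : IsAffineOpen U) (r : Γ(S, U))
    (y : ProjectiveSpectrum (𝒮.deg (S.basicOpen r) (hU.basicOpen r)))
    (hy : RelProj.emb p chart (S.basicOpen r) (hU.basicOpen r) y ∈ W)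
    (hy' : RelProj.emb p chart U hU (ProjectiveSpectrum.comap
      (𝒮.res hU (hU.basicOpen r) (S.basicOpen_le r)) (𝒮.irrelevant_le_map U hU r) y) ∈ W),
    cval s (S.basicOpen r) (hU.basicOpen r) y hy =
      GrMod.locModMap (𝒮.res hU (hU.basicOpen r) (S.basicOpen_le r)) (𝒮.irrelevant_le_map U hU r)
        (ℳ.res hU (hU.basicOpen r) (S.basicOpen_le r)) y (cval s U hU _ hy')

variable (hP : RelProj.IsRelProj 𝒮 p chart) (hℳ : Coh.IsQCoh ((AMod.toOS 𝒮.toQCAlg).obj ℳ.mod))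

include hP in
theorem Compat.smul {W : P.Opens} (c : Γ(P, W)) {s : Γ(piMod (locM 𝒮 p chart ℳ n), W)} (hs : Compat s) :
    Compat (c • s) := by
  intro U hU r y hy hy'
  rw [cval_smul, cval_smul, GrMod.locModMap_smul, hs U hU r y hy hy',
    app_val_of_eq _ _ (RelProj.map_res_emb hP U hU r) c y hy hy']

variable (ℳ) in
/-- The compatible families. -/
noncomputable def relSub (n : ℤ) : SubMod (piMod (locM 𝒮 p chart ℳ n)) where
  mem W :=
    { carrier := {s | Compat s}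
      zero_mem' := fun U hU r y hy hy' => by rw [cval_zero, cval_zero, map_zero]
      add_mem' := fun {s t} hs ht U hU r y hy hy' => by
        rw [cval_add, cval_add, map_add, hs U hU r y hy hy', ht U hU r y hy hy']
      smul_mem' := fun c s hs => Compat.smul hP c hs }
  res_mem {W W'} h s hs U hU r y hy hy' := by
    rw [cval_res, cval_res]
    exact hs U hU r y (h hy) (h hy')
  local_mem {W} s hs U hU r y hy hy' := by
    obtain ⟨W', h, hW', hs'⟩ := hs _ hy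
    have hW'' : RelProj.emb p chart U hU (ProjectiveSpectrum.comap
        (𝒮.res hU (hU.basicOpen r) (S.basicOpen_le r)) (𝒮.irrelevant_le_map U hU r) y) ∈ W' := by
      rwa [← congr($(RelProj.map_res_emb hP U hU r) y)] at hW'
    exact hs' U hU r y hW' hW''

variable (ℳ) in
/-- The module `(ℳ(n))~`. -/
noncomputable def relTilde (n : ℤ) : P.Modules := (relSub ℳ hP n).toMod

variable (ℳ) in
/-- The identifications. -/
noncomputable def relLam (n : ℤ) (U : S.Opens) (hU : IsAffineOpen U) :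
    relTilde ℳ hP n ⟶ (Scheme.Modules.pushforward (RelProj.emb p chart U hU)).obj (GrMod.tilde (𝒮.deg U hU) (ℳ.deg U hU) n) :=
  (relSub ℳ hP n).ι ≫ piProj (locM 𝒮 p chart ℳ n) ⟨U, hU⟩

theorem Compat.eq_T {W : P.Opens} {s : Γ(piMod (locM 𝒮 p chart ℳ n), W)} (hs : Compat s) {V D : S.Opens}
    {hV : IsAffineOpen V} {hD : IsAffineOpen D} {hle : D ≤ V} (hr : ∃ r : Γ(S, V), S.basicOpen r = D)
    {x : ProjectiveSpectrum (𝒮.deg V hV)} {y : ProjectiveSpectrum (𝒮.deg D hD)}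
    (h : Over hV hD hle x y) (hx : RelProj.emb p chart V hV x ∈ W) (hy : RelProj.emb p chart D hD y ∈ W) :
    cval s D hD y hy = MT ℳ h (cval s V hV x hx) := by
  obtain ⟨r, rfl⟩ := hr
  obtain rfl : x = ProjectiveSpectrum.comap (𝒮.res hV hD hle) (𝒮.irrelevant_le_map V hV r) y :=
    Over.eq h rfl
  exact (hs V hV r y hy hx).trans (locModMap_eq_MT ℳ r y _)

/-! ### Transporting a section of one chart to the others -/

variable {U : S.Opens} {hU : IsAffineOpen U} {W : P.Opens}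
  (q : Γ(GrMod.tilde (𝒮.deg U hU) (ℳ.deg U hU) n, RelProj.emb p chart U hU ⁻¹ᵁ W))

/-- `v` is the value at `y` of `q` seen in the chart `V`. -/
def IsVal {V : S.Opens} (hV : IsAffineOpen V) (y : ProjectiveSpectrum (𝒮.deg V hV))
    (v : GrMod.LocMod (𝒮.deg V hV) (M := ℳ.mod.val.obj (op V)) y) : Prop :=
  ∀ (D : S.Opens) (hD : IsAffineOpen D) (hleV : D ≤ V) (hleU : D ≤ U),
    (∃ r : Γ(S, V), S.basicOpen r = D) → (∃ r : Γ(S, U), S.basicOpen r = D) →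
    ∀ (y' : ProjectiveSpectrum (𝒮.deg D hD)) (x : ProjectiveSpectrum (𝒮.deg U hU))
      (h1 : Over hV hD hleV y y') (h2 : Over hU hD hleU x y') (hx : RelProj.emb p chart U hU x ∈ W),
      MT ℳ h1 v = MT ℳ h2 (tv q x hx)

include hP in
theorem exists_local (hW : W ≤ p ⁻¹ᵁ U) {V : S.Opens} (hV : IsAffineOpen V)
    (y : ProjectiveSpectrum (𝒮.deg V hV)) (hy : RelProj.emb p chart V hV y ∈ W) :
    ∃ (D : S.Opens) (hD : IsAffineOpen D) (hleV : D ≤ V) (hleU : D ≤ U),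
      (∃ r : Γ(S, V), S.basicOpen r = D) ∧ (∃ r : Γ(S, U), S.basicOpen r = D) ∧
      ∃ (y' : ProjectiveSpectrum (𝒮.deg D hD)) (x : ProjectiveSpectrum (𝒮.deg U hU)),
        Over hV hD hleV y y' ∧ Over hU hD hleU x y' ∧ RelProj.emb p chart U hU x = RelProj.emb p chart V hV y := by
  obtain ⟨D, hD, hz, hrV, hrU⟩ := exists_common hV hU (p_emb_mem V hV y) (hW hy)
  obtain ⟨y', hy'⟩ := exists_emb_eq (chart := chart) D hD hz
  obtain ⟨x, hx⟩ := exists_emb_eq (chart := chart) U hU (hW hy)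
  exact ⟨D, hD, by obtain ⟨r, rfl⟩ := hrV; exact S.basicOpen_le r, by obtain ⟨r, rfl⟩ := hrU; exact S.basicOpen_le r,
    hrV, hrU, y', x, over_of_emb_eq hP hrV hy'.symm, over_of_emb_eq hP hrU (hx.trans hy'.symm), hx⟩

include hP hℳ in
theorem IsVal.unique (hW : W ≤ p ⁻¹ᵁ U) {V : S.Opens} {hV : IsAffineOpen V}
    {y : ProjectiveSpectrum (𝒮.deg V hV)} (hy : RelProj.emb p chart V hV y ∈ W)
    {v v' : GrMod.LocMod (𝒮.deg V hV) (M := ℳ.mod.val.obj (op V)) y} (h : IsVal q hV y v) (h' : IsVal q hV y v') : v = v' := by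
  obtain ⟨D, hD, hleV, hleU, hrV, hrU, y', x, h1, h2, hx⟩ := exists_local hP hW hV y hy
  have hxW : RelProj.emb p chart U hU x ∈ W := hx.symm ▸ hy
  exact (MT_bijective ℳ hℳ hrV h1).1 ((h D hD hleV hleU hrV hrU y' x h1 h2 hxW).trans
    (h' D hD hleV hleU hrV hrU y' x h1 h2 hxW).symm)

include hP hℳ in
theorem exists_isVal (hW : W ≤ p ⁻¹ᵁ U) {V : S.Opens} (hV : IsAffineOpen V)
    (y : ProjectiveSpectrum (𝒮.deg V hV)) (hy : RelProj.emb p chart V hV y ∈ W) :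
    ∃ v, IsVal q hV y v := by
  obtain ⟨D, hD, hleV, hleU, hrV, hrU, y', x, h1, h2, hx⟩ := exists_local hP hW hV y hy
  have hxW : RelProj.emb p chart U hU x ∈ W := hx.symm ▸ hy
  obtain ⟨v, hv⟩ := (MT_bijective ℳ hℳ hrV h1).2 (MT ℳ h2 (tv q x hxW))
  refine ⟨v, fun D2 hD2 hleV2 hleU2 hrV2 hrU2 y2 x2 h12 h22 hx2 => ?_⟩
  have e2 : RelProj.emb p chart D2 hD2 y2 = RelProj.emb p chart V hV y := (emb_eq_of_over hP hrV2 h12).symm
  have e1 : RelProj.emb p chart D hD y' = RelProj.emb p chart V hV y := (emb_eq_of_over hP hrV h1).symm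
  obtain rfl : x2 = x := (RelProj.emb p chart U hU).isOpenEmbedding.injective
    (((emb_eq_of_over hP hrU2 h22).trans e2).trans hx.symm)
  have hz1 : p (RelProj.emb p chart V hV y) ∈ D := e1 ▸ p_emb_mem D hD y'
  have hz2 : p (RelProj.emb p chart V hV y) ∈ D2 := e2 ▸ p_emb_mem D2 hD2 y2
  obtain ⟨f, hf, hzf⟩ := hV.exists_basicOpen_le (V := D ⊓ D2) ⟨_, hz1, hz2⟩ (p_emb_mem V hV y)
  obtain ⟨y3, hy3⟩ := exists_emb_eq (chart := chart) (S.basicOpen f) (hV.basicOpen f) hzf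
  have hle1 : S.basicOpen f ≤ D := hf.trans inf_le_left
  have hle2 : S.basicOpen f ≤ D2 := hf.trans inf_le_right
  have o1 : Over hD (hV.basicOpen f) hle1 y' y3 :=
    over_of_emb_eq hP (basic_of_le hleV rfl hle1) (e1.trans hy3.symm)
  have o2 : Over hD2 (hV.basicOpen f) hle2 y2 y3 :=
    over_of_emb_eq hP (basic_of_le hleV2 rfl hle2) (e2.trans hy3.symm)
  have oV := h1.trans o1
  have oU := h2.trans o1
  refine (MT_bijective ℳ hℳ (basic_of_le hleV2 rfl hle2) o2).1 ?_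
  rw [MT_trans ℳ h12 o2 oV, MT_trans ℳ h22 o2 oU, ← MT_trans ℳ h1 o1 oV, ← MT_trans ℳ h2 o1 oU, hv]

/-- The value of `q` in the chart `V`. -/
noncomputable def tval (hW : W ≤ p ⁻¹ᵁ U) (V : S.Opens) (hV : IsAffineOpen V)
    (y : ProjectiveSpectrum (𝒮.deg V hV)) (hy : RelProj.emb p chart V hV y ∈ W) : GrMod.LocMod (𝒮.deg V hV) (M := ℳ.mod.val.obj (op V)) y :=
  (exists_isVal hP hℳ q hW hV y hy).choose

theorem tval_spec (hW : W ≤ p ⁻¹ᵁ U) (V : S.Opens) (hV : IsAffineOpen V)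
    (y : ProjectiveSpectrum (𝒮.deg V hV)) (hy : RelProj.emb p chart V hV y ∈ W) :
    IsVal q hV y (tval hP hℳ q hW V hV y hy) :=
  (exists_isVal hP hℳ q hW hV y hy).choose_spec

include hP hℳ in
/-- The values of `q` in another chart are locally given by one fraction. -/
theorem tval_frac (hW : W ≤ p ⁻¹ᵁ U) (V : S.Opens) (hV : IsAffineOpen V)
    (y : ProjectiveSpectrum (𝒮.deg V hV)) (hy : RelProj.emb p chart V hV y ∈ W) :
    ∃ (W' : (Proj (𝒮.deg V hV)).Opens) (_ : y ∈ W') (hle : W' ≤ RelProj.emb p chart V hV ⁻¹ᵁ W)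
      (i j : ℕ) (a : ℳ.deg V hV i) (b : 𝒮.deg V hV j)
      (hb : ∀ y2 : W', (b : 𝒮.presheaf.obj (op V)) ∉ y2.1.asHomogeneousIdeal),
      ((i : ℤ) = j + n ∨ (a : ℳ.mod.val.obj (op V)) = 0) ∧
      ∀ y2 : W', tval hP hℳ q hW V hV y2.1 (hle y2.2) = LocalizedModule.mk (a : ℳ.mod.val.obj (op V)) ⟨(b : 𝒮.presheaf.obj (op V)), hb y2⟩ := by
  obtain ⟨D, hD, hleV, hleU, hrV, hrU, y', x, h1, h2, hx⟩ := exists_local hP hW hV y hy
  have hxW : RelProj.emb p chart U hU x ∈ W := hx.symm ▸ hy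
  obtain ⟨W1, hxW1, ι1, i, j, ⟨a, ha⟩, ⟨b, hb⟩, hnin, hdeg, hval⟩ :=
    (q : GrMod.sect (𝒮.deg U hU) (ℳ.deg U hU) n (op (RelProj.emb p chart U hU ⁻¹ᵁ W))).2 ⟨x, hxW⟩
  replace hdeg : (i : ℤ) = j + n ∨ a = 0 := hdeg
  obtain ⟨c, hc0, hcu, -, -, hmd, hsd, -⟩ := exists_num_mod (hU := hV) (hD := hD) (hle := hleV) ℳ hℳ hrV
  obtain ⟨b', l, hb'd, hb'⟩ := hsd j (𝒮.res hU hD hleU b) ((𝒮.res hU hD hleU).map_mem hb)
  obtain ⟨a', m, ha'd, ha', hdeg'⟩ : ∃ (a' : ℳ.mod.val.obj (op V)) (m : ℕ), a' ∈ ℳ.deg V hV i ∧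
      ℳ.res hV hD hleV a' = 𝒮.res hV hD hleV c ^ m • ℳ.res hU hD hleU a ∧
      ((i : ℤ) = j + n ∨ a' = 0) := by
    rcases hdeg with hd | hd
    · obtain ⟨a', m, h, h'⟩ := hmd i (ℳ.res hU hD hleU a) (ℳ.res_mem hU hD hleU _ _ ha)
      exact ⟨a', m, h, h', Or.inl hd⟩
    · exact ⟨0, 0, zero_mem _, by rw [hd, map_zero, map_zero, smul_zero], Or.inr rfl⟩
  have hz : p (RelProj.emb p chart V hV y) ∈ D := (emb_eq_of_over hP hrV h1) ▸ p_emb_mem D hD y'
  let W' : (Proj (𝒮.deg V hV)).Opens :=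
    RelProj.emb p chart V hV ⁻¹ᵁ (RelProj.emb p chart U hU ''ᵁ W1 ⊓ p ⁻¹ᵁ D)
  have hyW' : y ∈ W' := ⟨⟨x, hxW1, hx⟩, hz⟩
  have key : ∀ y2 : W', ∃ (y2' : ProjectiveSpectrum (𝒮.deg D hD)) (x2 : ProjectiveSpectrum (𝒮.deg U hU))
      (hx2 : x2 ∈ W1), Over hV hD hleV y2.1 y2' ∧ Over hU hD hleU x2 y2' ∧
        RelProj.emb p chart U hU x2 = RelProj.emb p chart V hV y2.1 := by
    rintro ⟨y2, ⟨x2, hx2, e⟩, hz2⟩
    obtain ⟨y2', hy2'⟩ := exists_emb_eq (chart := chart) D hD hz2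
    exact ⟨y2', x2, hx2, over_of_emb_eq hP hrV hy2'.symm, over_of_emb_eq hP hrU (e.trans hy2'.symm), e⟩
  have hb_mem : ∀ y2 : W', b' * c ^ m ∉ y2.1.asHomogeneousIdeal := by
    intro y2 hc'
    obtain ⟨y2', x2, hx2, o1, o2, -⟩ := key y2
    have hu := y2'.isPrime
    have hnu : 𝒮.res hV hD hleV c ∉ y2'.asHomogeneousIdeal := fun hm =>
      hu.ne_top (Ideal.eq_top_of_isUnit_mem _ hm hcu)
    have hm : 𝒮.res hV hD hleV (b' * c ^ m) ∈ y2'.asHomogeneousIdeal.toIdeal := o1.le hc'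
    rw [map_mul, map_pow, hb'] at hm
    rcases hu.mem_or_mem hm with hm | hm
    · rcases hu.mem_or_mem hm with hm | hm
      · exact o2.notMem (hnin ⟨x2, hx2⟩) hm
      · exact hnu (hu.mem_of_pow_mem l hm)
    · exact hnu (hu.mem_of_pow_mem m hm)
  refine ⟨W', hyW', ?_, i, j, ⟨c ^ l • a', ?_⟩, ⟨b' * c ^ m, ?_⟩, hb_mem, ?_, fun y2 => ?_⟩
  · rintro y2 hy2
    obtain ⟨y2', x2, hx2, -, -, e⟩ := key ⟨y2, hy2⟩
    exact show RelProj.emb p chart V hV y2 ∈ W from e ▸ ι1.le hx2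
  · simpa using SetLike.GradedSMul.smul_mem (A := 𝒮.deg V hV) (B := ℳ.deg V hV) (SetLike.pow_mem_graded l hc0) ha'd
  · simpa using SetLike.mul_mem_graded hb'd (SetLike.pow_mem_graded m hc0)
  · exact hdeg'.imp id fun h => show c ^ l • a' = 0 by rw [h, smul_zero]
  · obtain ⟨y2', x2, hx2, o1, o2, e⟩ := key y2
    refine (MT_bijective ℳ hℳ hrV o1).1 ?_
    rw [tval_spec hP hℳ q hW V hV y2.1 _ D hD hleV hleU hrV hrU y2' x2 o1 o2 (ι1.le hx2), MT_mk]
    rw [show tv q x2 (ι1.le hx2) = LocalizedModule.mk a ⟨b, hnin ⟨x2, hx2⟩⟩ from hval ⟨x2, hx2⟩, MT_mk]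
    refine LocalizedModule.mk_eq.mpr ⟨1, ?_⟩
    simp only [one_smul, Submonoid.smul_def, res_smul', map_mul, map_pow, ha', hb', smul_smul]
    congr 1
    ring

/-- The component in the chart `V` of the extension of `q`. -/
noncomputable def tsect (hW : W ≤ p ⁻¹ᵁ U) (V : S.Opens) (hV : IsAffineOpen V) :
    GrMod.sect (𝒮.deg V hV) (ℳ.deg V hV) n (op (RelProj.emb p chart V hV ⁻¹ᵁ W)) :=
  ⟨fun y => ⟨tval hP hℳ q hW V hV y.1 y.2, by
      obtain ⟨W', hy, hle, i, j, a, b, hb, hdeg, hv⟩ := tval_frac hP hℳ q hW V hV y.1 y.2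
      exact (hv ⟨y.1, hy⟩) ▸ mk_mem_tildeAt _ _ n a.2 b.2 (hb ⟨y.1, hy⟩) hdeg⟩,
    fun y => by
      obtain ⟨W', hy, hle, i, j, a, b, hb, hdeg, hv⟩ := tval_frac hP hℳ q hW V hV y.1 y.2
      exact ⟨W', hy, homOfLE hle, i, j, a, b, hb, hdeg, hv⟩⟩

/-- The extension of `q` to all charts. -/
noncomputable def tfam (hW : W ≤ p ⁻¹ᵁ U) : Γ(piMod (locM 𝒮 p chart ℳ n), W) :=
  fun i => tsect hP hℳ q hW i.1 i.2

theorem cval_tfam (hW : W ≤ p ⁻¹ᵁ U) (V : S.Opens) (hV : IsAffineOpen V)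
    (y : ProjectiveSpectrum (𝒮.deg V hV)) (hy : RelProj.emb p chart V hV y ∈ W) :
    cval (tfam hP hℳ q hW) V hV y hy = tval hP hℳ q hW V hV y hy := rfl

theorem compat_tfam (hW : W ≤ p ⁻¹ᵁ U) : Compat (tfam hP hℳ q hW) := by
  intro V hV r y hy hy'
  rw [cval_tfam, cval_tfam]
  refine IsVal.unique hP hℳ q hW hy (tval_spec hP hℳ q hW _ _ y hy) ?_
  intro D hD hleV hleU hrV hrU y' x h1 h2 hx
  have h0 : Over hV (hV.basicOpen r) (S.basicOpen_le r)
      (ProjectiveSpectrum.comap (𝒮.res hV (hV.basicOpen r) (S.basicOpen_le r))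
        (𝒮.irrelevant_le_map V hV r) y) y := rfl
  have h01 := h0.trans h1
  have hrV' : ∃ f : Γ(S, V), S.basicOpen f = D := by
    obtain ⟨g, hg⟩ := hrV
    obtain ⟨f, hf⟩ := hV.basicOpen_basicOpen_is_basicOpen r g
    exact ⟨f, hf.trans hg⟩
  exact (MT_trans ℳ h0 h1 h01 _).trans
    (tval_spec hP hℳ q hW V hV _ hy' D hD _ hleU hrV' hrU y' x h01 h2 hx)

theorem tval_self (hW : W ≤ p ⁻¹ᵁ U) (y : ProjectiveSpectrum (𝒮.deg U hU))
    (hy : RelProj.emb p chart U hU y ∈ W) : tval hP hℳ q hW U hU y hy = tv q y hy := by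
  refine IsVal.unique hP hℳ q hW hy (tval_spec hP hℳ q hW U hU y hy) ?_
  intro D hD hleV hleU hrV hrU y' x h1 h2 hx
  obtain rfl : y = x := Over.eq h1 h2
  rfl

include hℳ in
theorem relLam_bijective (n : ℤ) (U : S.Opens) (hU : IsAffineOpen U) (W : P.Opens) (hW : W ≤ p ⁻¹ᵁ U) :
    Function.Bijective ((relLam ℳ hP n U hU).app W) := by
  constructor
  · intro s t hst
    have hs : Compat ((relSub ℳ hP n).ι.app W s) := (relSub ℳ hP n).ι_app_mem s
    have ht : Compat ((relSub ℳ hP n).ι.app W t) := (relSub ℳ hP n).ι_app_mem t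
    have hU' : comp ((relSub ℳ hP n).ι.app W s) U hU = comp ((relSub ℳ hP n).ι.app W t) U hU := hst
    refine (relSub ℳ hP n).ι_app_injective W (funext fun i => ?_)
    refine tv_ext (U := RelProj.emb p chart i.1 i.2 ⁻¹ᵁ W) fun y hy => ?_
    change cval ((relSub ℳ hP n).ι.app W s) i.1 i.2 y hy = cval ((relSub ℳ hP n).ι.app W t) i.1 i.2 y hy
    obtain ⟨D, hD, hleV, hleU, hrV, hrU, y', x, h1, h2, hx⟩ := exists_local hP hW i.2 y hy
    have hxW : RelProj.emb p chart U hU x ∈ W := hx.symm ▸ hy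
    have hy' : RelProj.emb p chart D hD y' ∈ W := (emb_eq_of_over hP hrV h1) ▸ hy
    refine (MT_bijective ℳ hℳ hrV h1).1 ?_
    rw [← hs.eq_T hrV h1 hy hy', ← ht.eq_T hrV h1 hy hy', hs.eq_T hrU h2 hxW hy', ht.eq_T hrU h2 hxW hy',
      cval, cval, hU']
  · intro q
    obtain ⟨s, hs⟩ := (relSub ℳ hP n).exists_ι_app_eq (tfam (n := n) hP hℳ (hU := hU) q hW) (compat_tfam hP hℳ q hW)
    refine ⟨s, ?_⟩
    change comp ((relSub ℳ hP n).ι.app W s) U hU = q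
    rw [hs]
    exact tv_ext (U := RelProj.emb p chart U hU ⁻¹ᵁ W) fun y hy => tval_self hP hℳ q hW y hy

include hℳ in
theorem isRelTilde_relTilde (n : ℤ) :
    RelProj.IsRelTilde 𝒮 p chart ℳ n (relTilde ℳ hP n) (relLam ℳ hP n) :=
  ⟨relLam_bijective hP hℳ n, fun U hU r W s y hy hy' => (relSub ℳ hP n).ι_app_mem s U hU r y hy hy'⟩

end

end Groth.RelTilde
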