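import Groth.Agent.RelTilde.Maps
import Groth.Agent.RelTilde.FiniteType

/-!
# `ℳ~` under (TF)
-/

universe u

open CategoryTheory CategoryTheory.Limits AlgebraicGeometry Opposite TopologicalSpace
open scoped HomogeneousIdeal

set_option backward.isDefEq.respectTransparency.types false

noncomputable section

namespace Groth.RelTilde

open Groth.RelTw (exists_emb_eq image_le exists_pos_notMem irrelevant_le_span_one)

variable {S P : Scheme.{u}} {𝒮 : RelProj.QCGrAlg S} {p : P ⟶ S}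
  {chart : ∀ (U : S.Opens) (hU : IsAffineOpen U), (((p ⁻¹ᵁ U : P.Opens) : Scheme.{u}) ≅ Proj (𝒮.deg U hU))}

theorem irrelevant_fg (hgen : 𝒮.IsGenDegOne) (hft : 𝒮.IsFTDeg 1) (U : S.Opens) (hU : IsAffineOpen U) :
    (HomogeneousIdeal.irrelevant (𝒮.deg U hU)).toIdeal.FG := by
  classical
  obtain ⟨T, hT, hspan⟩ := hft U hU
  refine ⟨T, le_antisymm (Ideal.span_le.mpr fun f hf =>
    HomogeneousIdeal.mem_irrelevant_of_mem _ one_pos (hT hf)) ?_⟩
  refine (irrelevant_le_span_one hgen U hU).trans (Ideal.span_le.mpr fun x hx => ?_)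
  obtain ⟨c, rfl⟩ := hspan x hx
  exact Ideal.sum_mem _ fun t ht => Ideal.mul_mem_left _ _ (Ideal.subset_span ht)

theorem irrelevant_eq_span (hgen : 𝒮.IsGenDegOne) (U : S.Opens) (hU : IsAffineOpen U) :
    (HomogeneousIdeal.irrelevant (𝒮.deg U hU)).toIdeal =
      Ideal.span (𝒮.deg U hU 1 : Set (𝒮.presheaf.obj (op U))) :=
  le_antisymm (irrelevant_le_span_one hgen U hU)
    (Ideal.span_le.mpr fun _ hf => HomogeneousIdeal.mem_irrelevant_of_mem _ one_pos hf)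

variable {ℳ : RelProj.GrModule 𝒮} {n : ℤ} {F : P.Modules}
  {lam : ∀ (U : S.Opens) (hU : IsAffineOpen U), F ⟶ locT p chart ℳ n U hU}
  (hF : RelProj.IsRelTilde 𝒮 p chart ℳ n F lam)

include hF in
theorem finite_image {U : S.Opens} (hU : IsAffineOpen U) (V : (Proj (𝒮.deg U hU)).Opens)
    (h : Module.Finite Γ(Proj (𝒮.deg U hU), V) Γ(GrMod.tilde (𝒮.deg U hU) (ℳ.deg U hU) n, V)) :
    Module.Finite Γ(P, RelProj.emb p chart U hU ''ᵁ V) Γ(F, RelProj.emb p chart U hU ''ᵁ V) := by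
  classical
  let e := RelProj.emb p chart U hU
  have hfin : ∀ V', V' = V → Module.Finite Γ(Proj (𝒮.deg U hU), V')
      Γ(GrMod.tilde (𝒮.deg U hU) (ℳ.deg U hU) n, V') := by
    rintro V' rfl; exact h
  obtain ⟨G, hG⟩ := (hfin _ (e.preimage_image_eq V)).fg_top
  have hb := hF.bijective U hU _ (image_le (chart := chart) U hU V)
  choose g hg using fun x => hb.2 x
  refine ⟨⟨G.image g, eq_top_iff.2 fun s _ => ?_⟩⟩
  set N := Submodule.span Γ(P, e ''ᵁ V) ((G.image g : Finset _) : Set Γ(F, e ''ᵁ V))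
  have hr : Function.Surjective (e.app (e ''ᵁ V)).hom := by
    have := e.isIso_app (e ''ᵁ V) (e.image_le_opensRange V)
    exact (ConcreteCategory.bijective_of_isIso (e.app (e ''ᵁ V))).2
  suffices key : ∀ q : Γ(GrMod.tilde (𝒮.deg U hU) (ℳ.deg U hU) n, e ⁻¹ᵁ (e ''ᵁ V)),
      q ∈ Submodule.span Γ(Proj (𝒮.deg U hU), e ⁻¹ᵁ (e ''ᵁ V))
        (G : Set Γ(GrMod.tilde (𝒮.deg U hU) (ℳ.deg U hU) n, e ⁻¹ᵁ (e ''ᵁ V))) →
      ∃ s ∈ N, (lam U hU).app (e ''ᵁ V) s = q by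
    obtain ⟨s', hs', he⟩ := key ((lam U hU).app _ s) (by rw [hG]; exact Submodule.mem_top)
    exact hb.1 he ▸ hs'
  intro q hq
  induction hq using Submodule.span_induction with
  | mem x hx => exact ⟨g x, Submodule.subset_span (Finset.mem_image_of_mem g hx), hg x⟩
  | zero => exact ⟨0, zero_mem _, map_zero _⟩
  | add a b _ _ ha hb' =>
    obtain ⟨sa, hsa, rfl⟩ := ha
    obtain ⟨sb, hsb, rfl⟩ := hb'
    exact ⟨sa + sb, add_mem hsa hsb, map_add _ _ _⟩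
  | smul r a _ ha =>
    obtain ⟨sa, hsa, rfl⟩ := ha
    obtain ⟨r', rfl⟩ := hr r
    exact ⟨r' • sa, N.smul_mem _ hsa, (lam U hU).app_smul r' sa⟩

variable {F₀ : P.Modules} {lam₀ : ∀ (U : S.Opens) (hU : IsAffineOpen U), F₀ ⟶ locT p chart ℳ 0 U hU}
  (hF₀ : RelProj.IsRelTilde 𝒮 p chart ℳ 0 F₀ lam₀)

include hF₀ in
theorem isFT_of_isTF (hgen : 𝒮.IsGenDegOne) (hft : 𝒮.IsFTDeg 1) (hTF : ℳ.IsTF) : CohB1.IsFT F₀ := by
  obtain ⟨n₀, hn₀⟩ := hTF
  haveI : F₀.IsQuasicoherent := isQCoh_of_isRelTilde hF₀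
  refine Groth.QCohMod.isFT_of_affine_cover F₀ fun z => ?_
  obtain ⟨U, hU, hzU, -⟩ := exists_isAffineOpen_mem_and_subset (x := p z) (U := (⊤ : S.Opens)) trivial
  obtain ⟨y, rfl⟩ := exists_emb_eq (chart := chart) U hU hzU
  obtain ⟨d, f, hd, hf, hfy⟩ := exists_pos_notMem (𝒮.deg U hU) y
  haveI := isQuasicoherent (𝒮.deg U hU) (ℳ.deg U hU) 0
  have hft' : CohB1.IsFT (GrMod.tilde (𝒮.deg U hU) (ℳ.deg U hU) 0) :=
    isFT_tilde (irrelevant_fg hgen hft U hU) ⟨n₀, hn₀ U hU⟩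
  exact ⟨_, (Proj.isAffineOpen_basicOpen (𝒮.deg U hU) f hf hd).image_of_isOpenImmersion (RelProj.emb p chart U hU),
    ⟨y, hfy, rfl⟩, finite_image hF₀ hU _
      (Groth.QCohMod.finite_sections _ hft' (Proj.isAffineOpen_basicOpen (𝒮.deg U hU) f hf hd))⟩

include hF₀ in
theorem isTN_of_isZero (hℳ : Coh.IsQCoh ((AMod.toOS 𝒮.toQCAlg).obj ℳ.mod)) [CompactSpace S]
    (hgen : 𝒮.IsGenDegOne) (hft : 𝒮.IsFTDeg 1) (hTF : ℳ.IsTF) (h0 : IsZero F₀) : ℳ.IsTN := by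
  classical
  obtain ⟨n₀, hn₀⟩ := hTF
  have hloc : ∀ (U : S.Opens) (hU : IsAffineOpen U),
      ∃ K, ∀ k, K ≤ k → ∀ z ∈ ℳ.deg U hU k, z = 0 := fun U hU => by
    refine eventually_bot_of_isZero _ _ (irrelevant_fg hgen hft U hU) (irrelevant_eq_span hgen U hU)
      ⟨n₀, hn₀ U hU⟩ ((isZero_iff _ _ 0).2 fun V q => sect_ext _ _ 0 fun x => ?_)
    obtain ⟨s, hs⟩ := exists_sec hF₀ U hU V q
    have hx : RelProj.emb p chart U hU x.1 ∈ RelProj.emb p chart U hU ''ᵁ V := ⟨x.1, x.2, rfl⟩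
    have h1 := hs x.1 hx x.2
    rw [eq_zero_of_isZero h0 s, pv_zero] at h1
    exact h1.symm
  choose U hU hxU using fun x : S => exists_isAffineOpen_mem_and_subset (x := x) (U := (⊤ : S.Opens)) trivial
  obtain ⟨T, hT⟩ := isCompact_univ.elim_finite_subcover (fun x : S => (U x : Set S)) (fun x => (U x).2)
    (fun x _ => Set.mem_iUnion.2 ⟨x, (hxU x).1⟩)
  choose K hK using fun x => hloc (U x) (hU x)
  refine ⟨T.sup K, fun V hV k hk z hz => ?_⟩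
  have hcov : ∀ y : V, ∃ (D : S.Opens) (hD : IsAffineOpen D) (hle : D ≤ V), y.1 ∈ D ∧
      ℳ.res hV hD hle z = 0 := fun y => by
    obtain ⟨x, hxT, hyx⟩ := Set.mem_iUnion₂.1 (hT (Set.mem_univ y.1))
    obtain ⟨D, hD, hyD, hrV, hrU⟩ := Groth.RelTw.exists_common hV (hU x) y.2 hyx
    have hleV : D ≤ V := by obtain ⟨r, rfl⟩ := hrV; exact S.basicOpen_le r
    have hleU : D ≤ U x := by obtain ⟨r, rfl⟩ := hrU; exact S.basicOpen_le r
    obtain ⟨c, -, hcu, -, -, hmd, -, -⟩ :=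
      exists_num_mod (hU := hU x) (hD := hD) (hle := hleU) ℳ hℳ hrU
    obtain ⟨a, m, had, ha⟩ := hmd k (ℳ.res hV hD hleV z) (ℳ.res_mem hV hD hleV k z hz)
    rw [hK x k ((Finset.le_sup (f := K) hxT).trans hk) a had, map_zero] at ha
    exact ⟨D, hD, hleV, hyD, (hcu.pow m).smul_eq_zero.1 ha.symm⟩
  choose D hD hle hyD hres using hcov
  exact TopCat.Sheaf.eq_of_locally_eq' (⟨ℳ.mod.val.presheaf, ℳ.mod.isSheaf⟩ : TopCat.Sheaf Ab.{u} S) D V
    (fun y => homOfLE (hle y)) (fun y hy => Opens.mem_iSup.2 ⟨⟨y, hy⟩, hyD ⟨y, hy⟩⟩) z 0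
    fun y => (hres y).trans (map_zero _).symm

end Groth.RelTilde
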