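import Groth.Agent.RelTwist.Twist
import Groth.Agent.Ega2Proj.RelAmple
import Groth.Agent.PicAux.GenLocal

/-!
# The inverse of `O(n)` on a quasi-compact open
-/

universe u

open CategoryTheory CategoryTheory.Limits AlgebraicGeometry Opposite TopologicalSpace
open scoped HomogeneousIdeal

set_option backward.isDefEq.respectTransparency.types false

namespace Groth.RelTw

open Groth.PicAux

variable {S P : Scheme.{u}} {𝒮 : RelProj.QCGrAlg S} {p : P ⟶ S}
  {chart : ∀ (U : S.Opens) (hU : IsAffineOpen U), (((p ⁻¹ᵁ U : P.Opens) : Scheme.{u}) ≅ Proj (𝒮.deg U hU))}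

/-- On a quasi-compact open some `O(n)`, `n ≠ 0`, has inverse `O(-n)`. -/
theorem exists_period_inverse (hP : RelProj.IsRelProj 𝒮 p chart) (U : P.Opens) (hU : IsCompact (U : Set P)) :
    ∃ d : ℕ, 0 < d ∧ ∀ (m : ℤ), (d : ℤ) ∣ m →
      ∀ (A : P.Modules)
        (lA : ∀ (V : S.Opens) (hV : IsAffineOpen V),
          A ⟶ (Scheme.Modules.pushforward (RelProj.emb p chart V hV)).obj (GrTwist.twist (𝒮.deg V hV) m)),
        RelProj.IsRelTwist 𝒮 p chart m A lA →
      ∀ (B : P.Modules)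
        (lB : ∀ (V : S.Opens) (hV : IsAffineOpen V),
          B ⟶ (Scheme.Modules.pushforward (RelProj.emb p chart V hV)).obj (GrTwist.twist (𝒮.deg V hV) (-m))),
        RelProj.IsRelTwist 𝒮 p chart (-m) B lB →
          Nonempty (CohB1.tensorMod (A.restrict U.ι) (B.restrict U.ι) ≅ Coh.structureModule (U : Scheme.{u})) := by
  classical
  have key : ∀ z : P, ∃ (V : S.Opens) (hV : IsAffineOpen V) (d : ℕ) (f : 𝒮.presheaf.obj (op V)),
      0 < d ∧ f ∈ 𝒮.deg V hV d ∧ z ∈ RelProj.emb p chart V hV ''ᵁ Proj.basicOpen (𝒮.deg V hV) f := by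
    intro z
    obtain ⟨V, hV, hzV, -⟩ := exists_isAffineOpen_mem_and_subset (x := p z) (U := (⊤ : S.Opens)) trivial
    obtain ⟨y, rfl⟩ := exists_emb_eq (chart := chart) V hV hzV
    obtain ⟨d, f, hd, hf, hfy⟩ := exists_pos_notMem (𝒮.deg V hV) y
    exact ⟨V, hV, d, f, hd, hf, ⟨y, hfy, rfl⟩⟩
  choose V hV d f hd hf hz using key
  obtain ⟨T, hT⟩ := hU.elim_finite_subcover
    (fun z => ((RelProj.emb p chart (V z) (hV z) ''ᵁ Proj.basicOpen (𝒮.deg (V z) (hV z)) (f z) : P.Opens) : Set P))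
    (fun z => Opens.isOpen _) (fun z _ => Set.mem_iUnion.2 ⟨z, hz z⟩)
  refine ⟨∏ z ∈ T, d z, Finset.prod_pos fun z _ => hd z, fun m hm A lA hA B lB hB => ?_⟩
  obtain ⟨c, hc⟩ := hm
  -- exponents for the powers of the `f z`
  let k : T → ℤ := fun z => (∏ w ∈ T.erase z.1, (d w : ℤ)) * c
  have hk : ∀ z : T, m = k z * d z.1 := fun z => by
    rw [hc, ← Finset.mul_prod_erase T d z.2, Nat.cast_mul, Nat.cast_prod]
    simp only [k]
    ring
  choose a ha hav using fun z : T => exists_sec_powFrac hA (V z) (hV z) (hf z) (k := k z) (hk z)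
  choose b hb hbv using fun z : T => exists_sec_powFrac hB (V z) (hV z) (hf z) (k := -k z) (by rw [hk z]; ring)
  let O : T → P.Opens := fun z =>
    U ⊓ RelProj.emb p chart (V z) (hV z) ''ᵁ Proj.basicOpen (𝒮.deg (V z) (hV z)) (f z)
  have hcov : U ≤ iSup O := fun w hw => by
    obtain ⟨z, hzT, hwz⟩ := Set.mem_iUnion₂.1 (hT hw)
    exact Opens.mem_iSup.2 ⟨⟨z, hzT⟩, hw, hwz⟩
  obtain ⟨t, ht, -⟩ := res_glue (M := CohB1.tensorMod A B) O (fun _ => inf_le_left) hcov
    (fun z => res _ inf_le_right (tmulSec (a z) (b z))) (fun i j => by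
      let O' : P.Opens := O i ⊓ O j
      have li : O' ≤ RelProj.emb p chart (V i) (hV i) ''ᵁ Proj.basicOpen (𝒮.deg (V i) (hV i)) (f i) :=
        inf_le_left.trans inf_le_right
      have lj : O' ≤ RelProj.emb p chart (V j) (hV j) ''ᵁ Proj.basicOpen (𝒮.deg (V j) (hV j)) (f j) :=
        inf_le_right.trans inf_le_right
      rw [res_res, res_res, res_tmulSec, res_tmulSec]
      obtain ⟨α, hα⟩ := (ha j).exists_coeff lj (res A li (a i))
      obtain ⟨β, hβ⟩ := (hb j).exists_coeff lj (res B li (b i))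
      rw [hα, hβ, tmulSec_smul_left, tmulSec_smul_right, ← mul_smul]
      refine (congrArg (· • _) ?_).trans (one_smul _ _)
      refine fun_ext_cover (chart := chart) fun z hzO => ?_
      obtain ⟨D, hD, hDi, hDj, ii, ij, hzD, hri, hrj, hpt⟩ := exists_chart_overlap hP (hV i) (hV j)
        (image_le _ _ _ (li hzO)) (image_le _ _ _ (lj hzO))
      refine ⟨D, hD, hzD, fun y hy => ?_⟩
      have hyi : 𝒮.res (hV i) hD hDi (f i) ∉ y.asHomogeneousIdeal := by
        obtain ⟨h1, -⟩ := pv_transfer hP hA (hV i) hD hri hDi ii (a i) y (li hy)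
        exact (mem_image_iff (V i) (hV i) _ _).1 h1
      have hyj : 𝒮.res (hV j) hD hDj (f j) ∉ y.asHomogeneousIdeal := by
        obtain ⟨h1, -⟩ := pv_transfer hP hA (hV j) hD hrj hDj ij (a j) y (lj hy)
        exact (mem_image_iff (V j) (hV j) _ _).1 h1
      obtain ⟨xi, ei⟩ := pv_transfer hP hA (hV i) hD hri hDi ii (a i) y (li hy)
      obtain ⟨xj, ej⟩ := pv_transfer hP hA (hV j) hD hrj hDj ij (a j) y (lj hy)
      obtain ⟨xi', ei'⟩ := pv_transfer hP hB (hV i) hD hri hDi ii (b i) y (li hy)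
      obtain ⟨xj', ej'⟩ := pv_transfer hP hB (hV j) hD hrj hDj ij (b j) y (lj hy)
      rw [hav i _ xi hyi, locMap_powFrac (𝒮.res (hV i) hD hDi) ii y _ hyi (k i) rfl hyi] at ei
      rw [hav j _ xj hyj, locMap_powFrac (𝒮.res (hV j) hD hDj) ij y _ hyj (k j) rfl hyj] at ej
      rw [hbv i _ xi' hyi, locMap_powFrac (𝒮.res (hV i) hD hDi) ii y _ hyi (-k i) rfl hyi] at ei'
      rw [hbv j _ xj' hyj, locMap_powFrac (𝒮.res (hV j) hD hDj) ij y _ hyj (-k j) rfl hyj] at ej'
      have eα := congrArg (fun q => pv lA D hD q y hy) hα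
      have eβ := congrArg (fun q => pv lB D hD q y hy) hβ
      simp only [pv_smul, pv_res, ei, ej] at eα
      simp only [pv_smul, pv_res, ei', ej'] at eβ
      have h1 : ∀ (g : 𝒮.presheaf.obj (op D)) (hg : g ∉ y.asHomogeneousIdeal) (e : ℤ),
          powFrac y g hg e * powFrac y g hg (-e) = 1 := fun g hg e => by
        rw [← powFrac_add, add_neg_cancel, show (0 : ℤ) = ((0 : ℕ) : ℤ) from rfl, powFrac_natCast, pow_zero,
          Localization.mk_one]
      rw [app_mul_val hD α β y hy, map_one]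
      refine Eq.trans ?_ (HomogeneousLocalization.val_one).symm
      have h2 := h1 _ hyi (k i)
      rw [eα, eβ, mul_mul_mul_comm, h1 _ hyj (k j), mul_one] at h2
      exact h2)
  obtain ⟨e⟩ := Groth.Ega2Proj.exists_tensorMod_restrict (L := A) (M := B) U.ι
  let t' : Γ((CohB1.tensorMod A B).restrict U.ι, ⊤) := res (CohB1.tensorMod A B) U.ι_image_top.le t
  have hg : Gen (CohB1.tensorMod A B) U t := Gen.of_cover O (fun _ => inf_le_left) hcov fun z => by
    rw [ht z]
    exact ((ha z).tensor (hb z)).res inf_le_right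
  have ht' : Gen ((CohB1.tensorMod A B).restrict U.ι) ⊤ t' := gen_restrict_image U (hg.res U.ι_image_top.le)
  have : IsIso (homOfSection t') := by
    rw [isIso_hom_structure_iff, homOfSection_one]
    exact ht'
  exact ⟨e.symm ≪≫ (asIso (homOfSection t')).symm⟩

end Groth.RelTw
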