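import Groth.Agent.RelTilde.Basic
import Groth.Agent.RelTwist.Twist
import Groth.Agent.PicAux.TensorLift
import Groth.Agent.Ega2Proj.TensorGen

/-!
# `(ℳ(n))~ = ℳ~ ⊗ O(n)`
-/

universe u

open CategoryTheory CategoryTheory.Limits AlgebraicGeometry Opposite TopologicalSpace
open scoped HomogeneousIdeal

set_option backward.isDefEq.respectTransparency.types false

noncomputable section

namespace Groth.RelTilde

open Groth.PicAux (res res_res res_ext app_res tmulSec res_tmulSec Gen)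
open Groth.RelTw (exists_emb_eq image_le powFrac irrelevant_le_span_one exists_frac_cover exists_sec_powFrac gval)

section ring

variable {A σ : Type u} [CommRing A] [SetLike σ A] [AddSubgroupClass σ A] {𝒜 : ℕ → σ} [GradedRing 𝒜]
  {M τ : Type u} [AddCommGroup M] [Module A M] [SetLike τ M] [AddSubgroupClass τ M]
  {ℳ : ℕ → τ} [SetLike.GradedSMul 𝒜 ℳ] [DirectSum.Decomposition ℳ]

/-- The product of a section of `M(m)~` with a section of `O(n)`. -/
theorem exists_mul_sec {m n k : ℤ} (hk : m + n = k) {U : (Proj 𝒜).Opens} (a : Γ(GrMod.tilde 𝒜 ℳ m, U))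
    (b : Γ(GrTwist.twist 𝒜 n, U)) :
    ∃ c : Γ(GrMod.tilde 𝒜 ℳ k, U), ∀ (x : ProjectiveSpectrum 𝒜) (hx : x ∈ U),
      tv c x hx = gval b x hx • tv a x hx := by
  have key : ∀ x : U, ∃ (V : (Proj 𝒜).Opens) (_ : x.1 ∈ V) (hle : V ≤ U) (i j : ℕ) (z : M) (s : A)
      (hs : ∀ y : V, s ∉ y.1.asHomogeneousIdeal),
      z ∈ ℳ i ∧ s ∈ 𝒜 j ∧ ((i : ℤ) = j + k ∨ z = 0) ∧
      ∀ y : V, gval b y.1 (hle y.2) • tv a y.1 (hle y.2) = LocalizedModule.mk z ⟨s, hs y⟩ := fun x => by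
    obtain ⟨Va, ma, ia, i, j, ⟨z, hz⟩, ⟨s, hs⟩, nina, ca, wa⟩ :=
      (a : GrMod.sect 𝒜 ℳ m (op U)).2 x
    obtain ⟨Vb, mb, ib, i', j', ⟨r, hr⟩, ⟨t, ht⟩, ninb, cb, wb⟩ :=
      (b : GrTwist.sectN (𝒜 := 𝒜) n (op U)).2 x
    replace ca : (i : ℤ) = j + m ∨ z = 0 := ca
    replace cb : (i' : ℤ) = j' + n ∨ r = 0 := cb
    refine ⟨Va ⊓ Vb, ⟨ma, mb⟩, inf_le_left.trans ia.le, i' + i, j' + j, r • z, t * s,
      fun y => y.1.asHomogeneousIdeal.toIdeal.primeCompl.mul_mem (ninb ⟨y.1, y.2.2⟩) (nina ⟨y.1, y.2.1⟩),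
      smul_mem 𝒜 ℳ hr hz rfl, SetLike.mul_mem_graded ht hs, ?_, fun y => ?_⟩
    · rcases ca with ca | rfl
      · rcases cb with cb | rfl
        · exact Or.inl (by push_cast; omega)
        · exact Or.inr (zero_smul _ _)
      · exact Or.inr (smul_zero _)
    · rw [show tv a y.1 _ = LocalizedModule.mk z _ from wa ⟨y.1, y.2.1⟩,
        show gval b y.1 _ = Localization.mk r _ from wb ⟨y.1, y.2.2⟩, LocalizedModule.mk_smul_mk]
      rfl
  refine ⟨(⟨fun x => ⟨gval b x.1 x.2 • tv a x.1 x.2, ?_⟩, fun x => ?_⟩ :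
    GrMod.sect 𝒜 ℳ k (op U)), fun x hx => rfl⟩
  · obtain ⟨V, hxV, hle, i, j, z, s, hs, hz, hsj, hdeg, hv⟩ := key x
    exact (hv ⟨x.1, hxV⟩) ▸ mk_mem_tildeAt 𝒜 ℳ k hz hsj (hs ⟨x.1, hxV⟩) hdeg
  · obtain ⟨V, hxV, hle, i, j, z, s, hs, hz, hsj, hdeg, hv⟩ := key x
    exact ⟨V, hxV, homOfLE hle, i, j, ⟨z, hz⟩, ⟨s, hsj⟩, hs, hdeg, hv⟩

end ring

variable {S P : Scheme.{u}} {𝒮 : RelProj.QCGrAlg S} {p : P ⟶ S}
  {chart : ∀ (U : S.Opens) (hU : IsAffineOpen U), (((p ⁻¹ᵁ U : P.Opens) : Scheme.{u}) ≅ Proj (𝒮.deg U hU))}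
  {ℳ : RelProj.GrModule 𝒮} {n : ℤ} {F F' L : P.Modules}
  {lam : ∀ (U : S.Opens) (hU : IsAffineOpen U), F ⟶ locT p chart ℳ 0 U hU}
  {lam' : ∀ (U : S.Opens) (hU : IsAffineOpen U), F' ⟶ locT p chart ℳ n U hU}
  {lamL : ∀ (U : S.Opens) (hU : IsAffineOpen U),
    L ⟶ (Scheme.Modules.pushforward (RelProj.emb p chart U hU)).obj (GrTwist.twist (𝒮.deg U hU) n)}

theorem exists_pair (lam : ∀ (U : S.Opens) (hU : IsAffineOpen U), F ⟶ locT p chart ℳ 0 U hU)
    (lamL : ∀ (U : S.Opens) (hU : IsAffineOpen U),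
      L ⟶ (Scheme.Modules.pushforward (RelProj.emb p chart U hU)).obj (GrTwist.twist (𝒮.deg U hU) n))
    (U : S.Opens) (hU : IsAffineOpen U) :
    ∃ ψ : CohB1.tensorMod F L ⟶ locT p chart ℳ n U hU,
      ∀ (W : P.Opens) (a : Γ(F, W)) (b : Γ(L, W)) (y : ProjectiveSpectrum (𝒮.deg U hU))
        (hy : RelProj.emb p chart U hU y ∈ W),
        tv (U := RelProj.emb p chart U hU ⁻¹ᵁ W) (ψ.app W (tmulSec a b)) y hy =
          Groth.RelTw.pv lamL U hU b y hy • pv lam U hU a y hy := by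
  choose c hc using fun (W : P.Opens) (a : Γ(F, W)) (b : Γ(L, W)) =>
    exists_mul_sec (zero_add n) (U := RelProj.emb p chart U hU ⁻¹ᵁ W)
      ((lam U hU).app W a) ((lamL U hU).app W b)
  have hc' : ∀ (W : P.Opens) (a : Γ(F, W)) (b : Γ(L, W)) (y : ProjectiveSpectrum (𝒮.deg U hU))
      (hy : RelProj.emb p chart U hU y ∈ W),
      tv (U := RelProj.emb p chart U hU ⁻¹ᵁ W) (c W a b) y hy =
        Groth.RelTw.pv lamL U hU b y hy • pv lam U hU a y hy := hc
  obtain ⟨ψ, hψ⟩ := Groth.PicAux.exists_tensor_lift (L := F) (M := L) (P := locT p chart ℳ n U hU)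
    (fun W => LinearMap.mk₂ _ (fun a b => (c W a b : Γ(locT p chart ℳ n U hU, W)))
      (fun a a' b => tv_ext (U := RelProj.emb p chart U hU ⁻¹ᵁ W) fun y hy => by
        refine Eq.trans ?_ (tv_add (U := RelProj.emb p chart U hU ⁻¹ᵁ W) _ _ y hy).symm
        rw [hc', hc', hc', pv_add, smul_add])
      (fun r a b => tv_ext (U := RelProj.emb p chart U hU ⁻¹ᵁ W) fun y hy => by
        refine Eq.trans ?_ (tv_smul (U := RelProj.emb p chart U hU ⁻¹ᵁ W) _ _ y hy).symm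
        rw [hc', hc', pv_smul, smul_comm]
        rfl)
      (fun a b b' => tv_ext (U := RelProj.emb p chart U hU ⁻¹ᵁ W) fun y hy => by
        refine Eq.trans ?_ (tv_add (U := RelProj.emb p chart U hU ⁻¹ᵁ W) _ _ y hy).symm
        rw [hc', hc', hc', ← add_smul]
        congr 1
        rw [Groth.RelTw.pv, map_add]; rfl)
      (fun r a b => tv_ext (U := RelProj.emb p chart U hU ⁻¹ᵁ W) fun y hy => by
        refine Eq.trans ?_ (tv_smul (U := RelProj.emb p chart U hU ⁻¹ᵁ W) _ _ y hy).symm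
        rw [hc', hc', Groth.RelTw.pv_smul, mul_smul]
        rfl))
    (fun W W' h a b => tv_ext (U := RelProj.emb p chart U hU ⁻¹ᵁ W') fun y hy => by
      refine Eq.trans (b := tv (U := RelProj.emb p chart U hU ⁻¹ᵁ W) (c W a b) y (h hy)) rfl ?_
      refine Eq.trans ?_ (hc' W' (res F h a) (res L h b) y hy).symm
      rw [hc', pv_res, Groth.RelTw.pv_res])
  exact ⟨ψ, fun W a b y hy => by rw [hψ]; exact hc' W a b y hy⟩

theorem compatible_pair {ψ : ∀ (U : S.Opens) (hU : IsAffineOpen U), CohB1.tensorMod F L ⟶ locT p chart ℳ n U hU}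
    (hψ : ∀ (U : S.Opens) (hU : IsAffineOpen U) (W : P.Opens) (a : Γ(F, W)) (b : Γ(L, W))
      (y : ProjectiveSpectrum (𝒮.deg U hU)) (hy : RelProj.emb p chart U hU y ∈ W),
      pv ψ U hU (tmulSec a b) y hy = Groth.RelTw.pv lamL U hU b y hy • pv lam U hU a y hy)
    (hc : Compatible lam) (hP : RelProj.IsRelProj 𝒮 p chart)
    (hL : RelProj.IsRelTwist 𝒮 p chart n L lamL) : Compatible ψ := by
  intro U hU r W s y hy hy'
  obtain ⟨W₁, hW₁, q, hyW₁, hq⟩ := Groth.PicAux.ptenUnit_locally_surjective F L W s _ hy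
  have hyW₁' : RelProj.emb p chart U hU (ProjectiveSpectrum.comap
      (𝒮.res hU (hU.basicOpen r) (S.basicOpen_le r)) (𝒮.irrelevant_le_map U hU r) y) ∈ W₁ := by
    have e : RelProj.emb p chart U hU (ProjectiveSpectrum.comap
        (𝒮.res hU (hU.basicOpen r) (S.basicOpen_le r)) (𝒮.irrelevant_le_map U hU r) y) =
        RelProj.emb p chart (S.basicOpen r) (hU.basicOpen r) y := congr($(RelProj.map_res_emb hP U hU r) y)
    rw [e]; exact hyW₁
  rw [← pv_res ψ (S.basicOpen r) (hU.basicOpen r) hW₁ s y hyW₁, ← pv_res ψ U hU hW₁ s _ hyW₁', ← hq]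
  clear hq
  induction q using TensorProduct.induction_on with
  | zero => rw [map_zero, pv_zero, pv_zero, map_zero]
  | tmul a b =>
    change pv ψ _ _ (tmulSec a b) y hyW₁ = GrMod.locModMap _ _ _ y (pv ψ U hU (tmulSec a b) _ hyW₁')
    rw [hψ, hψ, GrMod.locModMap_smul, hc U hU r W₁ a y hyW₁ hyW₁']
    congr 1
    exact hL.compat U hU r W₁ b y hyW₁ hyW₁'
  | add a b ha hb => rw [map_add, pv_add, pv_add, map_add, ha, hb]

/-- A map bijective on the opens inside the members of a cover is an isomorphism. -/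
theorem isIso_of_bijective_cover {X : Scheme.{u}} {M N : X.Modules} (φ : M ⟶ N) {ι : Type*} (O : ι → X.Opens)
    (hO : ∀ x : X, ∃ i, x ∈ O i) (h : ∀ i (W : X.Opens), W ≤ O i → Function.Bijective (φ.app W)) : IsIso φ := by
  have : Mono φ := (Groth.CohTwo.mono_iff_app_injective φ).mpr fun W s t hst => by
    refine res_ext (fun i => W ⊓ O i) (fun _ => inf_le_left) (fun x hx => ?_) fun i => ?_
    · obtain ⟨i, hi⟩ := hO x
      exact Opens.mem_iSup.2 ⟨i, hx, hi⟩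
    · exact (h i _ inf_le_right).1 (by rw [app_res, app_res, hst])
  have : Epi φ := epi_of_local φ fun V t x hx => by
    obtain ⟨i, hi⟩ := hO x
    obtain ⟨s, hs⟩ := (h i (V ⊓ O i) inf_le_right).2 (res N inf_le_left t)
    exact ⟨V ⊓ O i, inf_le_left, ⟨hx, hi⟩, s, hs⟩
  exact isIso_of_mono_of_epi φ

/-- `(ℳ(n))~ ≅ ℳ~ ⊗ O(n)`. -/
theorem nonempty_shift_iso (hP : RelProj.IsRelProj 𝒮 p chart) (hgen : 𝒮.IsGenDegOne)
    (hℳ : Coh.IsQCoh ((AMod.toOS 𝒮.toQCAlg).obj ℳ.mod))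
    (hF : RelProj.IsRelTilde 𝒮 p chart ℳ 0 F lam) (hF' : RelProj.IsRelTilde 𝒮 p chart ℳ n F' lam')
    (hL : RelProj.IsRelTwist 𝒮 p chart n L lamL) : Nonempty (F' ≅ CohB1.tensorMod F L) := by
  choose ψ hψ using exists_pair lam lamL
  have hψ' : ∀ (U : S.Opens) (hU : IsAffineOpen U) (W : P.Opens) (a : Γ(F, W)) (b : Γ(L, W))
      (y : ProjectiveSpectrum (𝒮.deg U hU)) (hy : RelProj.emb p chart U hU y ∈ W),
      pv ψ U hU (tmulSec a b) y hy = Groth.RelTw.pv lamL U hU b y hy • pv lam U hU a y hy := hψ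
  obtain ⟨φ, hφ, -⟩ := existsUnique_lift ψ hP hℳ hF'
    (compatible_pair hψ' (compatible_of_isRelTilde hF) hP hL)
  suffices IsIso φ from ⟨(asIso φ).symm⟩
  let ι := Σ' (U : S.Opens) (hU : IsAffineOpen U) (g : 𝒮.presheaf.obj (op U)), g ∈ 𝒮.deg U hU 1
  refine isIso_of_bijective_cover φ
    (fun i : ι => RelProj.emb p chart i.1 i.2.1 ''ᵁ Proj.basicOpen (𝒮.deg i.1 i.2.1) i.2.2.1) (fun z => ?_) ?_
  · obtain ⟨U, hU, hzU, -⟩ := exists_isAffineOpen_mem_and_subset (x := p z) (U := (⊤ : S.Opens)) trivial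
    obtain ⟨y, rfl⟩ := exists_emb_eq (chart := chart) U hU hzU
    obtain ⟨g, hg, hgy⟩ := exists_frac_cover (irrelevant_le_span_one hgen U hU) y
    exact ⟨⟨U, hU, g, hg⟩, ⟨y, hgy, rfl⟩⟩
  rintro ⟨U, hU, g, hg⟩ W hW
  obtain ⟨ℓ, hℓ, hℓv⟩ := exists_sec_powFrac hL U hU hg (k := n) (by simp)
  have hWU : W ≤ p ⁻¹ᵁ U := hW.trans (image_le U hU _)
  have hgy : ∀ y : ProjectiveSpectrum (𝒮.deg U hU), RelProj.emb p chart U hU y ∈ W → g ∉ y.asHomogeneousIdeal :=
    fun y hy => (Groth.RelTw.mem_image_iff U hU (Proj.basicOpen (𝒮.deg U hU) g) y).1 (hW hy)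
  have hval : ∀ (t : Γ(F, W)) (y : ProjectiveSpectrum (𝒮.deg U hU)) (hy : RelProj.emb p chart U hU y ∈ W),
      pv lam' U hU (φ.app W (tmulSec t (res L hW ℓ))) y hy = powFrac y g (hgy y hy) n • pv lam U hU t y hy := by
    intro t y hy
    rw [show pv lam' U hU (φ.app W (tmulSec t (res L hW ℓ))) y hy = pv ψ U hU (tmulSec t (res L hW ℓ)) y hy from
      congrArg (fun q => tv (U := RelProj.emb p chart U hU ⁻¹ᵁ W) q y hy) congr(($(hφ U hU)).app W _),
      hψ', Groth.RelTw.pv_res, hℓv y (hW hy) (hgy y hy)]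
  have hT : Function.Bijective fun t : Γ(F, W) => φ.app W (tmulSec t (res L hW ℓ)) := by
    constructor
    · intro t t' htt
      refine sec_ext hF hU hWU fun y hy => ?_
      have h1 := congrArg (fun q => pv lam' U hU q y hy) htt
      simp only [hval] at h1
      exact (Groth.RelTw.isUnit_powFrac y g (hgy y hy) n).smul_left_cancel.1 h1
    · intro s'
      let V := RelProj.emb p chart U hU ⁻¹ᵁ W
      have h1 : g ^ (-n).toNat ∈ 𝒮.deg U hU (-n).toNat := by simpa using SetLike.pow_mem_graded (-n).toNat hg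
      have h2 : g ^ n.toNat ∈ 𝒮.deg U hU n.toNat := by simpa using SetLike.pow_mem_graded n.toNat hg
      obtain ⟨c, hc⟩ := exists_mul_sec (add_neg_cancel n) (U := V) ((lam' U hU).app W s')
        (Groth.RelTw.frac h1 h2 (by omega) V (fun y hy h => hgy y hy (y.isPrime.mem_of_pow_mem _ h)))
      obtain ⟨t, ht⟩ := (hF.bijective U hU W hWU).2 c
      refine ⟨t, sec_ext hF' hU hWU fun y hy => ?_⟩
      rw [hval, show pv lam U hU t y hy = tv c y hy from
        congrArg (fun q => tv (U := V) q y hy) ht, hc, Groth.RelTw.gval_frac, smul_smul]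
      refine Eq.trans (congrArg (· • pv lam' U hU s' y hy) ?_) (one_smul _ _)
      rw [powFrac, Localization.mk_mul, ← Localization.mk_one]
      refine (Groth.RelTw.loc_mk_eq).mpr ⟨1, ?_⟩
      simp only [one_smul, Submonoid.smul_def, Submonoid.coe_mul, Submonoid.coe_one, smul_eq_mul, ← pow_add,
        one_mul, mul_one, add_comm n.toNat]
  exact (Function.Bijective.of_comp_iff _ (Groth.Ega2Proj.tmulSec_bijective (M := F) hW hℓ)).1 hT

end Groth.RelTilde
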